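import Groth.Agent.L24.St.FpAlg
import Groth.Agent.L24.St.MonoQcStack

/-!
Points topology from an atlas alone, and fibre products of schemes read on their categories.
-/

set_option autoImplicit false
set_option backward.isDefEq.respectTransparency false
set_option backward.isDefEq.respectTransparency.types false

universe u

open CategoryTheory CategoryTheory.Limits AlgebraicGeometry Opposite AlgSt

noncomputable section

namespace Groth.L24.UnivClosed

open Groth.L24.St

variable {S : Scheme.{u}} {𝒳 𝒴 : AlgSt.Cat S} {U V W : Over S}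

theorem continuous_ofChart_of_atlas (hg : FibCat.IsFibGrpd 𝒳.p) (ha : HasAtlas (AlgSp.LocP @Smooth) 𝒳)
    (x : FibCat.overCat U ⥤ᵇ 𝒳) : Continuous (Points.ofChart x) := by
  refine ⟨fun O hO => ?_⟩
  obtain ⟨V, y, hy, hys⟩ := ha
  obtain ⟨W, ψ, ρ, hψ, ⟨i⟩, hsurj⟩ := exists_chart_square hg (x := x) hy
  have : Smooth ψ.left := hψ
  have hys' := (isSurjective_iff_ofChart y).1 (isSurjective_of_repWith (overCat_isFibGrpd V) hg hys)
  have hs : Function.Surjective ψ.left := fun t => by
    obtain ⟨v, hv⟩ := hys' (Points.ofChart x t)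
    obtain ⟨w, hw, -⟩ := hsurj t v hv.symm
    exact ⟨w, hw⟩
  have heq : ψ.left ⁻¹' (Points.ofChart x ⁻¹' O) = ρ.left ⁻¹' (Points.ofChart y ⁻¹' O) := by
    ext w
    simp only [Set.mem_preimage]
    rw [← ofChart_overMap_comp, ← ofChart_overMap_comp, ofChart_congr i]
  rw [← Function.Surjective.image_preimage hs (Points.ofChart x ⁻¹' O), heq]
  exact ψ.left.isOpenMap _ ((hO V y hy).preimage ρ.left.continuous)

/-- Functors with pointwise related values agree on points. -/
theorem ofChart_eq_of_hom {F G : FibCat.overCat U ⥤ᵇ 𝒳}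
    (h : ∀ o, Nonempty (F.obj o ⟶ G.obj o)) : Points.ofChart F = Points.ofChart G := by
  funext t
  obtain ⟨m⟩ := h (Over.mk (Over.homMk (U.left.fromSpecResidueField t) rfl :
    Over.mk (U.left.fromSpecResidueField t ≫ U.hom) ⟶ U))
  exact mk_eq_of_hom m

theorem left_of_overId {a b : (FibCat.overCat U).obj} {φ : a ⟶ b} (h : OverId φ) :
    ∃ e : a.left = b.left, φ.left = eqToHom e := by
  obtain ⟨e, he⟩ := h.eq
  exact ⟨e, he⟩

theorem overId_ext {a b : (FibCat.overCat U).obj} {φ ψ : a ⟶ b} (hφ : OverId φ) (hψ : OverId ψ) : φ = ψ := by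
  obtain ⟨e, he⟩ := left_of_overId hφ
  obtain ⟨e', he'⟩ := left_of_overId hψ
  exact Over.OverMorphism.ext (he.trans he'.symm)

theorem left_eqToHom_comp {A B C : Over U} (h : A = B) (f : B ⟶ C) :
    (eqToHom h ≫ f).left = eqToHom (congrArg Comma.left h) ≫ f.left := by
  subst h
  simp

/-- The functor to a fibre product with a slice given by a cartesian square. -/
theorem isEquivOver_pullback {T R : Over S} {e : T ⟶ V} {v : W ⟶ V} {s : R ⟶ W} {t : R ⟶ T}
    (sq : IsPullback t s e v) {b : FibCat.overCat W ⥤ᵇ FibCat.overCat V} (iv : b ≅ overMap v)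
    (L : FibCat.overCat R ⥤ᵇ FibCat.fp (overMap e) b)
    (h1 : BasedFunctor.comp L (FibCat.fpFst (overMap e) b) = overMap t)
    (h2 : BasedFunctor.comp L (FibCat.fpSnd (overMap e) b) = overMap s) : FibCat.IsEquivOver L := by
  have F1 : L.toFunctor ⋙ (FibCat.fpFst (overMap e) b).toFunctor = Over.map t :=
    congrArg BasedFunctor.toFunctor h1
  have F2 : L.toFunctor ⋙ (FibCat.fpSnd (overMap e) b).toFunctor = Over.map s :=
    congrArg BasedFunctor.toFunctor h2
  have o1 : ∀ o : (FibCat.overCat R).obj, (L.obj o).obj.fst = (Over.map t).obj o := fun o =>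
    Functor.congr_obj F1 o
  have o2 : ∀ o : (FibCat.overCat R).obj, (L.obj o).obj.snd = (Over.map s).obj o := fun o =>
    Functor.congr_obj F2 o
  have m1 : ∀ {o o' : (FibCat.overCat R).obj} (m : o ⟶ o'),
      (L.map m).hom.fst = eqToHom (o1 o) ≫ (Over.map t).map m ≫ eqToHom (o1 o').symm := fun m =>
    Functor.congr_hom F1 m
  have : L.toFunctor.Faithful := ⟨fun {o o' m m'} h => by
    have e1 := m1 m
    have e2 := m1 m'
    rw [show L.map m = L.map m' from h, e2, cancel_epi, cancel_mono] at e1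
    exact ((Over.OverMorphism.ext (congrArg (fun k => k.left) e1.symm)))⟩
  have : L.toFunctor.Full := ⟨fun {o o'} m => by
    let g₁ : (Over.map t).obj o ⟶ (Over.map t).obj o' := eqToHom (o1 o).symm ≫ m.hom.fst ≫ eqToHom (o1 o')
    let g₂ : (Over.map s).obj o ⟶ (Over.map s).obj o' := eqToHom (o2 o).symm ≫ m.hom.snd ≫ eqToHom (o2 o')
    have hp : g₁.left = g₂.left := by
      have h := Functor.congr_hom (FibCat.fpSnd (overMap e) b).w m
      change m.hom.snd.left = eqToHom _ ≫ m.hom.fst.left ≫ eqToHom _ at h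
      simp only [g₁, g₂, Over.comp_left, Over.eqToHom_left]
      rw [h]
      simp
    refine ⟨Over.homMk g₁.left (sq.hom_ext ?_ ?_), ?_⟩
    · have := Over.w g₁
      exact (Category.assoc _ _ _).trans this
    · have := Over.w g₂
      rw [← hp] at this
      exact (Category.assoc _ _ _).trans this
    · refine fp_ext ?_ ?_
      · rw [m1]
        rw [show (Over.map t).map (Over.homMk g₁.left _) = g₁ from Over.OverMorphism.ext rfl]
        simp [g₁]
      · rw [show (L.map _).hom.snd = eqToHom (o2 o) ≫ (Over.map s).map _ ≫ eqToHom (o2 o').symm from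
          Functor.congr_hom F2 _]
        rw [show (Over.map s).map (Over.homMk g₁.left _) = g₂ from Over.OverMorphism.ext hp]
        simp [g₂]⟩
  refine isEquivOver_of_overId _ fun η => ?_
  obtain ⟨ei, hei⟩ := left_of_overId (fp_overId η)
  have hv := overId_app iv.hom η.obj.snd
  obtain ⟨ev, hev⟩ := left_of_overId hv
  change η.obj.fst.left = (b.obj η.obj.snd).left at ei
  change (b.obj η.obj.snd).left = η.obj.snd.left at ev
  let c : η.obj.fst.left ≅ η.obj.snd.left := eqToIso (ei.trans ev)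
  have hc : η.obj.fst.hom ≫ e = c.hom ≫ η.obj.snd.hom ≫ v := by
    have w1 := Over.w η.obj.iso.hom
    have w2 := Over.w (iv.hom.toNatTrans.app η.obj.snd)
    rw [hei] at w1
    rw [hev] at w2
    change eqToHom ev ≫ η.obj.snd.hom ≫ v = (b.obj η.obj.snd).hom at w2
    change eqToHom ei ≫ (b.obj η.obj.snd).hom = η.obj.fst.hom ≫ e at w1
    rw [← w1, ← w2]
    simp [c]
  let r := sq.lift η.obj.fst.hom (c.hom ≫ η.obj.snd.hom) (by rw [Category.assoc]; exact hc)
  let i₁ : (L.obj (Over.mk r)).obj.fst ≅ η.obj.fst :=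
    eqToIso (o1 _) ≪≫ Over.isoMk (Iso.refl _)
      ((Category.id_comp _).trans (sq.lift_fst _ _ _).symm)
  let i₂ : (L.obj (Over.mk r)).obj.snd ≅ η.obj.snd :=
    eqToIso (o2 _) ≪≫ Over.isoMk c (sq.lift_snd η.obj.fst.hom (c.hom ≫ η.obj.snd.hom) _).symm
  have hi₁ : OverId i₁.hom := OverId.of_eq ((congrArg Comma.left (o1 (Over.mk r))).trans rfl) (by
    exact (left_eqToHom_comp (o1 (Over.mk r)) _).trans (Category.comp_id _))
  have hi₂ : OverId i₂.hom := OverId.of_eq ((congrArg Comma.left (o2 (Over.mk r))).trans (ei.trans ev)) (by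
    exact (left_eqToHom_comp (o2 (Over.mk r)) _).trans (eqToHom_trans _ (ei.trans ev)))
  exact ⟨Over.mk r, fpIsoMk i₁ i₂ (overId_ext ((hi₁.map (overMap e)).comp (fp_overId η))
    ((fp_overId (L.obj (Over.mk r))).comp (hi₂.map b))), overId_fp _ hi₁⟩

/-- An equivalence after an equivalence. -/
theorem isEquivOver_of_comp {𝒵 : AlgSt.Cat S} {F : 𝒳 ⥤ᵇ 𝒴} {G : 𝒴 ⥤ᵇ 𝒵} (hG : FibCat.IsEquivOver G)
    (h : FibCat.IsEquivOver (BasedFunctor.comp F G)) : FibCat.IsEquivOver F := by
  obtain ⟨c, hc, ⟨i⟩, -⟩ := exists_inverse hG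
  have e : BasedFunctor.comp (BasedFunctor.comp F G) c ≅ F := whiskerL F i
  exact isEquivOver_congr e (isEquivOver_comp h hc)

end Groth.L24.UnivClosed
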