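import Groth.Agent.L24.St.InertiaSep
import Groth.Agent.L24.St.InertiaDM
import Groth.Agent.L24.St.ChartTop
import Groth.Agent.L24.St.AffineMor
import Groth.Agent.L24.St.Desc
import Groth.Agent.L24.St.QcSep
import Groth.Agent.L24.LocQ.Descent
import Groth.Agent.L23.EtaleMono
import Groth.Agent.L23.FpqcAffine
import Groth.Agent.L23.FppfImmersion
import Groth.Agent.L23.LqfRep
import Groth.Agent.L23.MorCalc
import Groth.Agent.L23.AffineMor
import Groth.Agent.S10650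
import Mathlib.FieldTheory.IsAlgClosed.AlgebraicClosure
import Groth.Prelude.Def_StGerb2

/-!
Finiteness of the inertia from etale neighbourhoods reflecting automorphisms.
-/

set_option autoImplicit false
set_option backward.isDefEq.respectTransparency false
set_option backward.isDefEq.respectTransparency.types false

universe u

open CategoryTheory CategoryTheory.Limits AlgebraicGeometry Opposite AlgSt

noncomputable section

namespace Groth.L24.InertiaFin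

open Groth.L24.St

variable {S : Scheme.{u}} {𝒳 𝒰 : AlgSt.Cat S}

/-- Proper and locally quasi-finite morphisms of spaces are finite. -/
theorem isFiniteMor_of_proper_lqf {X Y : AlgSp.Sp S} (hX : AlgSp.IsAlgSpace X) (hY : AlgSp.IsAlgSpace Y)
    {a : X ⟶ Y} (hp : AlgSp.IsProperMor a) (hl : AlgSp.LocP (@LocallyQuasiFinite ⊓ @LocallyOfFiniteType) a) :
    AlgSp.IsFiniteMor a := by
  have hr := Groth.L23.Lqf.representable_of_lqf hX hY hl hp.1
  have h₁ := (Groth.L23.isSeparatedMor_iff hr).1 hp.1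
  have h₂ := Groth.L23.repWith_of_locP Groth.L23.etLocal_lqfLft hY hr hl
  have h₃ := (Groth.L23.repWith_universallyClosed_iff hr).2 hp.2.2
  exact Groth.L23.isFiniteMor_iff.2 (Groth.L23.repWith_mono
    (fun φ ⟨⟨(_ : IsSeparated φ), ⟨(_ : LocallyQuasiFinite φ), (_ : LocallyOfFiniteType φ)⟩⟩, (_ : UniversallyClosed φ)⟩ =>
      have : IsProper φ := {}
      IsFinite.of_isProper_of_locallyQuasiFinite φ)
    (Groth.L23.repWith_inf_iff.2 ⟨Groth.L23.repWith_inf_iff.2 ⟨h₁, h₂⟩, h₃⟩))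

theorem repWith_finite_of_proper_lqf {𝒴 : AlgSt.Cat S} {g : 𝒳 ⥤ᵇ 𝒴}
    (hp : RepByAlgSpWith AlgSp.IsProperMor g)
    (hl : RepByAlgSpWith (AlgSp.LocP (@LocallyQuasiFinite ⊓ @LocallyOfFiniteType)) g) :
    RepByAlgSpWith AlgSp.IsFiniteMor g := fun U y => by
  obtain ⟨F, e, he, h1⟩ := hp U y
  exact ⟨F, e, he, isFiniteMor_of_proper_lqf F.property (AlgSp.IsAlgSpace.yon_obj U) h1
    (Wit.prop_of_equiv (fun _ _ _ _ i _ a => locP_precomp_iso _ i a) (hl U y) F.property e he)⟩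

/-- Automorphisms over the identity of the image lift. -/
def LiftsAut (h : 𝒰 ⥤ᵇ 𝒳) : Prop :=
  ∀ (u : 𝒰.obj) (β : h.obj u ⟶ h.obj u), OverId β → ∃ α : u ⟶ u, OverId α ∧ h.map α = β

/-- A field point over a point of a scheme. -/
theorem ptOver_of_fieldHom (T : Over S) (t : T.left) {K : Type u} [Field K]
    (ψ : T.left.residueField t ⟶ CommRingCat.of K) (s : Spec (CommRingCat.of K) ⟶ S) (g : Over.mk s ⟶ T)
    (hg : g.left = Spec.map ψ ≫ T.left.fromSpecResidueField t) :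
    ptOver t = Points.mk ({ K := K, str := s, obj := Over.mk g, lies := rfl } : FPt (FibCat.overCat T)) := by
  rw [← ptOver_overPt (Points.mk _), overPt_mk]
  congr 1
  show t = (eqToHom (rfl : (Over.mk s : Over S) = Over.mk s) ≫ g).left (IsLocalRing.closedPoint K)
  rw [eqToHom_refl, Category.id_comp, hg, Scheme.Hom.comp_apply, Scheme.fromSpecResidueField_apply]

/-- Lifts of automorphisms over geometric points give surjectivity of the scheme of lifts. -/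
theorem isSurjective_fpFst_diag (g𝒰 : FibCat.IsFibGrpd 𝒰.p) (g𝒳 : FibCat.IsFibGrpd 𝒳.p) (h : 𝒰 ⥤ᵇ 𝒳)
    (u : 𝒰.obj) (β : h.obj u ⟶ h.obj u) [IsIso β] (hβ : OverId β)
    (H : ∀ (Ω : Type u) [Field Ω] [IsAlgClosed Ω] (t : Spec (CommRingCat.of Ω) ⟶ S) (u : 𝒰.p.Fiber (Over.mk t)),
        Function.Surjective (Gerb.autMap h u.1))
    (y : FibCat.overCat (𝒰.p.obj u) ⥤ᵇ FibCat.fp h h)
    (k : y.obj (idObj (𝒰.p.obj u)) ≅ fpObj u u (asIso β) hβ) (hk : OverId k.hom) :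
    IsSurjective (FibCat.fpFst y (FibCat.diag h)) := by
  have gf := L09.Fib.fp_isFibGrpd g𝒰 g𝒰 g𝒳 (F := h) (G := h)
  let ω : (FibCat.fp h h).obj := fpObj u u (asIso β) hβ
  let T := 𝒰.p.obj u
  have hT := overCat_isFibGrpd T
  intro q
  obtain ⟨t, rfl⟩ := (overPtEquiv T).symm.surjective q
  show ptOver t ∈ Set.range _
  let Ω := AlgebraicClosure (T.left.residueField t)
  let j : Spec (CommRingCat.of Ω) ⟶ T.left :=
    Spec.map (CommRingCat.ofHom (algebraMap (T.left.residueField t) Ω)) ≫ T.left.fromSpecResidueField t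
  let s := j ≫ T.hom
  let g : Over.mk s ⟶ T := Over.homMk j rfl
  obtain ⟨u', hu', φ, hφ⟩ := L24.St.exists_over g𝒰 (rfl : 𝒰.p.obj u = T) g
  have hpβ : 𝒳.p.map (h.map φ ≫ β) = 𝒳.p.map (h.map φ) := by
    obtain ⟨e, he⟩ := hβ.eq
    rw [Functor.map_comp, he]
    simp
  obtain ⟨β', hβ', hβ'c⟩ := exists_iso_factor g𝒳 (h.map φ ≫ β) (h.map φ) rfl (by rw [hpβ]; simp)
  let u₁ : 𝒰.p.Fiber (Over.mk s) := Functor.Fiber.mk hu'
  have : 𝒳.p.IsHomLift (𝟙 (𝒳.p.obj (h.obj u'))) β'.hom := hβ'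
  have hinv : 𝒳.p.IsHomLift (𝟙 (𝒳.p.obj (h.obj u'))) β'.inv := hβ'.inv
  obtain ⟨α', hα'⟩ := H Ω s u₁
    ⟨⟨β'.hom, hβ'⟩, ⟨β'.inv, hinv⟩, Functor.Fiber.hom_ext β'.hom_inv_id, Functor.Fiber.hom_ext β'.inv_hom_id⟩
  have hα : h.map α'.hom.1 = β'.hom := congrArg (fun a => a.hom.1) hα'
  let μ : (FibCat.diag h).obj u' ⟶ ω := fpHom φ (α'.hom.1 ≫ φ) (by
    show h.map φ ≫ β = 𝟙 (h.obj u') ≫ h.map (α'.hom.1 ≫ φ)
    rw [Category.id_comp, Functor.map_comp, hα, hβ'c])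
  let o : (FibCat.overCat T).obj := Over.mk g
  let ν : y.obj o ⟶ ω := y.map (Over.homMk g (Category.comp_id _) : o ⟶ idObj T) ≫ k.hom
  have hν : (FibCat.fp h h).p.obj ((FibCat.diag h).obj u') = (FibCat.fp h h).p.obj (y.obj o) :=
    hu'.trans (y.w_obj o).symm
  obtain ⟨i, hi, -⟩ := exists_iso_factor gf μ ν hν (by
    have h1 : (FibCat.fp h h).p.map μ = 𝒰.p.map φ := rfl
    obtain ⟨e, he⟩ := hk.eq
    rw [h1, hφ, Functor.map_comp, he, p_map_map]
    simp only [Category.assoc, eqToHom_trans_assoc, eqToHom_trans]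
    rfl)
  let p₁ : FPt (FibCat.overCat T) := { K := Ω, str := s, obj := o, lies := rfl }
  let p₂ : FPt 𝒰 := { K := Ω, str := s, obj := u', lies := hu' }
  obtain ⟨z, hz, -⟩ := exists_points_fp g𝒰 gf hT (FibCat.diag h) y (Points.mk p₁) (Points.mk p₂)
    (mk_eq_of_hom (p := p₁.map y) (q := p₂.map (FibCat.diag h)) i.inv)
  refine ⟨z, hz.trans ?_⟩
  exact (ptOver_of_fieldHom T t _ s g rfl).symm

/-- Surjectivity on automorphisms of geometric points lifts automorphisms of all objects. -/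
theorem liftsAut_of_geometric (g𝒰 : FibCat.IsFibGrpd 𝒰.p) (g𝒳 : FibCat.IsFibGrpd 𝒳.p) (h : 𝒰 ⥤ᵇ 𝒳)
    (hh : RepByAlgSpWith AlgSp.IsEtaleMor h)
    (H : ∀ (Ω : Type u) [Field Ω] [IsAlgClosed Ω] (t : Spec (CommRingCat.of Ω) ⟶ S) (u : 𝒰.p.Fiber (Over.mk t)),
        Function.Surjective (Gerb.autMap h u.1)) : LiftsAut h := by
  intro u β hβ
  have hfh := faithful_of_rep1 g𝒰 g𝒳 h (repWith_rep1 hh)
  have gf := L09.Fib.fp_isFibGrpd g𝒰 g𝒰 g𝒳 (F := h) (G := h)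
  have : 𝒳.p.IsHomLift (𝟙 (𝒳.p.obj (h.obj u))) β := hβ
  have := L09.Fib.isIso_of_isFibGrpd _ g𝒳 (𝟙 (𝒳.p.obj (h.obj u))) β
  let ω : (FibCat.fp h h).obj := fpObj u u (asIso β) hβ
  obtain ⟨y, k, hk⟩ := exists_overCat_functor gf ω (rfl : (FibCat.fp h h).p.obj ω = 𝒰.p.obj u)
  let T := 𝒰.p.obj u
  have hT := overCat_isFibGrpd T
  have hd : RepByAlgSpWith (AlgSp.RepWith @IsOpenImmersion) (FibCat.diag h) :=
    (diag_repWith_iff_rep1 (pBase_repWith _) (descends_repWith _) (repWith_rep1 hh)).2 fun V z => by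
      obtain ⟨F, e, he, h1⟩ := hh V z
      exact ⟨F, e, he, Groth.L23.repWith_isOpenImmersion_diagonal_of_unramified F.property
        (AlgSp.IsAlgSpace.yon_obj V) (Groth.L23.locP_mono (fun φ (_ : Etale φ) => ⟨inferInstance, inferInstance⟩)
          ((Groth.L23.isEtaleMor_iff_locP F.property (AlgSp.IsAlgSpace.yon_obj V) _).1 h1))⟩
  have hsurj := isSurjective_fpFst_diag g𝒰 g𝒳 h u β hβ H y k hk
  obtain ⟨F, e, he, hoi⟩ := hd T y
  let P := BasedFunctor.comp e (FibCat.fpFst y (FibCat.diag h))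
  let q := AlgSt.spMapOfOver P
  have hs : AlgSp.IsSurjectiveMor q := (surjective_spMapOfOver_iff _).2
    (isSurjective_comp (isSurjective_of_isEquivOver he) hsurj)
  have : IsIso q := Groth.L23.isIso_of_openImmersion_surjective hoi hs
  have i₀ : P ≅ BasedFunctor.comp (ofSpMap q) (toOverCat T) :=
    eqToIso (show P = BasedFunctor.comp (BasedFunctor.comp P (ofOverCat T)) (toOverCat T) from rfl) ≪≫
      whiskerR (isoOfSpMap (BasedFunctor.comp P (ofOverCat T))) (toOverCat T)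
  have hP : FibCat.IsEquivOver P :=
    isEquivOver_congr i₀.symm (isEquivOver_comp (ofSpMap_isEquivOver q) (toOverCat_isEquivOver T))
  obtain ⟨c, hc, -, ⟨ic⟩⟩ := exists_inverse he
  have hfst : FibCat.IsEquivOver (FibCat.fpFst y (FibCat.diag h)) :=
    isEquivOver_congr (show BasedFunctor.comp c P ≅ FibCat.fpFst y (FibCat.diag h) from whiskerR ic (FibCat.fpFst y (FibCat.diag h))) (isEquivOver_comp hc hP)
  obtain ⟨ξ, j, hj⟩ := eqv_exists_overId hfst (idObj T)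
  let v := ξ.obj.snd
  let m : ω ⟶ (FibCat.diag h).obj v :=
    k.inv ≫ y.map j.inv ≫ ξ.obj.iso.hom
  have hm : OverId m := hk.inv.comp ((hj.inv.map y).comp (fp_overId ξ))
  have hm₁ : OverId m.hom.fst := hm.map (FibCat.fpFst h h)
  have hm₂ : OverId m.hom.snd := hm.map (FibCat.fpSnd h h)
  have hw : h.map m.hom.fst ≫ 𝟙 (h.obj v) = β ≫ h.map m.hom.snd := m.hom.w
  have : 𝒰.p.IsHomLift (𝟙 (𝒰.p.obj u)) m.hom.snd := hm₂
  have := L09.Fib.isIso_of_isFibGrpd _ g𝒰 (𝟙 (𝒰.p.obj u)) m.hom.snd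
  refine ⟨m.hom.fst ≫ inv m.hom.snd, hm₁.comp (OverId.inv (i := asIso m.hom.snd) hm₂), ?_⟩
  rw [Functor.map_comp, Functor.map_inv, IsIso.comp_inv_eq]
  exact (Category.comp_id _).symm.trans hw

/-- The map of inertias. -/
def inertiaMap (h : 𝒰 ⥤ᵇ 𝒳) :
    FibCat.inertia (FibCat.toSelf 𝒰) ⥤ᵇ FibCat.inertia (FibCat.toSelf 𝒳) where
  toFunctor :=
    { obj := fun z => ⟨h.obj z.pt, h.toFunctor.mapIso z.aut, by
        show 𝒳.p.map (h.map z.aut.hom) = 𝟙 _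
        rw [p_map_map, show 𝒰.p.map z.aut.hom = 𝟙 _ from z.map_aut]
        simp⟩
      map := fun {a b} f => ⟨h.map f.hom, by
        show h.map a.aut.hom ≫ h.map f.hom = h.map f.hom ≫ h.map b.aut.hom
        rw [← Functor.map_comp, ← Functor.map_comp, f.comm]⟩
      map_id := fun z => FibCat.InertiaObj.hom_ext (h.toFunctor.map_id _)
      map_comp := fun f g => FibCat.InertiaObj.hom_ext (h.toFunctor.map_comp _ _) }
  w := by
    show _ ⋙ FibCat.InertiaObj.forget ⋙ 𝒳.p = FibCat.InertiaObj.forget ⋙ 𝒰.p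
    exact congrArg (fun G => FibCat.InertiaObj.forget ⋙ G) h.w

/-- The comparison of inertias. -/
def inertiaCmp (h : 𝒰 ⥤ᵇ 𝒳) :
    FibCat.inertia (FibCat.toSelf 𝒰) ⥤ᵇ FibCat.fp h (FibCat.inertiaToBase (FibCat.toSelf 𝒳)) :=
  FibCat.fpLift (FibCat.inertiaToBase (FibCat.toSelf 𝒰)) (inertiaMap h)
    (mkIso2 (fun z => Iso.refl _) (fun a b f => (Category.comp_id _).trans (Category.id_comp _).symm)
      (fun z => overId_id _))

theorem isEquivOver_inertiaCmp (g𝒳 : FibCat.IsFibGrpd 𝒳.p) (h : 𝒰 ⥤ᵇ 𝒳) [h.toFunctor.Faithful]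
    (H : LiftsAut h) : FibCat.IsEquivOver (inertiaCmp h) := by
  have : (inertiaCmp h).toFunctor.Faithful := ⟨fun {a b f g} e =>
    FibCat.InertiaObj.hom_ext (congrArg (fun k => k.hom.fst) e)⟩
  have : (inertiaCmp h).toFunctor.Full := ⟨fun {a b} m => by
    have hw : h.map m.hom.fst ≫ 𝟙 _ = 𝟙 _ ≫ m.hom.snd.hom := m.hom.w
    rw [Category.comp_id, Category.id_comp] at hw
    have hc : h.map a.aut.hom ≫ m.hom.snd.hom = m.hom.snd.hom ≫ h.map b.aut.hom := m.hom.snd.comm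
    refine ⟨⟨m.hom.fst, h.toFunctor.map_injective ?_⟩, fp_ext rfl (FibCat.InertiaObj.hom_ext hw)⟩
    rw [Functor.map_comp, Functor.map_comp, hw]
    exact hc⟩
  refine isEquivOver_of_overId _ fun η => ?_
  let u := η.obj.fst
  let x := η.obj.snd
  let j := η.obj.iso
  have hj : OverId j.hom := fp_overId η
  have hx : OverId x.aut.hom := OverId.of_eq rfl x.map_aut
  have hβ : OverId (j.hom ≫ x.aut.hom ≫ j.inv) := hj.comp (hx.comp hj.inv)
  obtain ⟨α, hα, hαβ⟩ := H u _ hβ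
  obtain ⟨α', hα', hαβ'⟩ := H u (j.hom ≫ x.aut.inv ≫ j.inv) (hj.comp (hx.inv.comp hj.inv))
  have h1 : α ≫ α' = 𝟙 u := h.toFunctor.map_injective (by
    rw [Functor.map_comp, CategoryTheory.Functor.map_id, hαβ, hαβ']
    show (j.hom ≫ x.aut.hom ≫ j.inv) ≫ j.hom ≫ x.aut.inv ≫ j.inv = 𝟙 _
    simp)
  have h2 : α' ≫ α = 𝟙 u := h.toFunctor.map_injective (by
    rw [Functor.map_comp, CategoryTheory.Functor.map_id, hαβ, hαβ']
    show (j.hom ≫ x.aut.inv ≫ j.inv) ≫ j.hom ≫ x.aut.hom ≫ j.inv = 𝟙 _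
    simp)
  obtain ⟨e, he⟩ := hα.eq
  let z : (FibCat.inertia (FibCat.toSelf 𝒰)).obj := ⟨u, ⟨α, α', h1, h2⟩, he⟩
  let n : (inertiaMap h).obj z ≅ x :=
    { hom := ⟨j.hom, by
        show h.map α ≫ j.hom = j.hom ≫ x.aut.hom
        rw [hαβ]
        show (j.hom ≫ x.aut.hom ≫ j.inv) ≫ j.hom = _
        simp⟩
      inv := ⟨j.inv, by
        show x.aut.hom ≫ j.inv = j.inv ≫ h.map α
        rw [hαβ]
        show _ = j.inv ≫ j.hom ≫ x.aut.hom ≫ j.inv
        simp⟩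
      hom_inv_id := FibCat.InertiaObj.hom_ext j.hom_inv_id
      inv_hom_id := FibCat.InertiaObj.hom_ext j.inv_hom_id }
  refine ⟨z, fpIsoMk (Iso.refl _) n ?_, overId_fp _ (overId_id _)⟩
  show h.map (𝟙 u) ≫ j.hom = 𝟙 _ ≫ j.hom
  simp

/-- The inertia is finite over the etale neighbourhood. -/
theorem finite_fpFst_inertia (h𝒳 : IsAlgStack Scheme.fppfPrecoverage 𝒳) (hqf : IsQuasiDMOver 𝒳)
    (h𝒰 : IsAlgStack Scheme.fppfPrecoverage 𝒰) (hsep : IsSeparatedOver 𝒰) (h : 𝒰 ⥤ᵇ 𝒳)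
    (hh : RepByAlgSpWith AlgSp.IsEtaleMor h)
    (H : ∀ (Ω : Type u) [Field Ω] [IsAlgClosed Ω] (t : Spec (CommRingCat.of Ω) ⟶ S) (u : 𝒰.p.Fiber (Over.mk t)),
        Function.Surjective (Gerb.autMap h u.1)) :
    RepByAlgSpWith AlgSp.IsFiniteMor (FibCat.fpFst h (FibCat.inertiaToBase (FibCat.toSelf 𝒳))) := by
  have g𝒳 := h𝒳.isStack.1
  have g𝒰 := h𝒰.isStack.1
  have := faithful_of_rep1 g𝒰 g𝒳 h (repWith_rep1 hh)
  have hI := isEquivOver_inertiaCmp g𝒳 h (liftsAut_of_geometric g𝒰 g𝒳 h hh H)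
  refine repWith_finite_of_proper_lqf ((repWith_precomp hI _).1 ?_)
    (repWith_fpFst h (inertiaToBase_repWith h𝒳 isAlgStack_selfOver hqf))
  exact inertiaToBase_repWith h𝒰 isAlgStack_selfOver hsep

/-- Finiteness of the inertia is local for etale neighbourhoods. -/
theorem finite_inertia (h𝒳 : IsAlgStack Scheme.fppfPrecoverage 𝒳) (hqf : IsQuasiDMOver 𝒳)
    (hloc : ∀ x : Points 𝒳, ∃ (𝒰 : AlgSt.Cat S) (h : 𝒰 ⥤ᵇ 𝒳),
      IsAlgStack Scheme.fppfPrecoverage 𝒰 ∧ x ∈ Set.range (Points.map h) ∧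
      RepByAlgSpWith AlgSp.IsEtaleMor h ∧ IsSeparatedOver 𝒰 ∧
      ∀ (Ω : Type u) [Field Ω] [IsAlgClosed Ω] (t : Spec (CommRingCat.of Ω) ⟶ S) (u : 𝒰.p.Fiber (Over.mk t)),
        Function.Surjective (Gerb.autMap h u.1)) :
    RepByAlgSpWith AlgSp.IsFiniteMor (FibCat.inertiaToBase (FibCat.toSelf 𝒳)) := by
  intro T y
  let f := FibCat.inertiaToBase (FibCat.toSelf 𝒳)
  obtain ⟨F, e, he⟩ := inertiaToBase_rep1_alg h𝒳 isAlgStack_selfOver (FibCat.toSelf 𝒳) T y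
  refine ⟨F, e, he, ?_⟩
  have key : ∀ t : T.left, ∃ (W : Over S) (ψ : W ⟶ T), Etale ψ.left ∧ (∃ w, ψ.left w = t) ∧
      Wit AlgSp.IsFiniteMor (BasedFunctor.comp (overMap ψ) y) f := by
    intro t
    obtain ⟨𝒰, h, h𝒰, ⟨p, hp⟩, hh, hsep, H⟩ := hloc (Points.ofChart y t)
    obtain ⟨W, ψ, z, hψ, ⟨i⟩, hs⟩ := exists_chart_cover (Q := @Etale) h𝒳.isStack.1 h𝒰.isStack.1 (f := h)
      (fun V w => by
        obtain ⟨G, c, hc, hG⟩ := hh V w
        exact ⟨G, c, hc, (Groth.L23.isEtaleMor_iff_locP G.property (AlgSp.IsAlgSpace.yon_obj V) _).1 hG⟩) y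
    obtain ⟨w, hw, -⟩ := hs t p hp.symm
    refine ⟨W, ψ, hψ, ⟨w, hw⟩, (wit_congr i (Iso.refl _)).2 ?_⟩
    exact (Wit.transfer (fpPaste z h f) (fpPaste_isEquivOver z h f) (Iso.refl _)).1
      (finite_fpFst_inertia h𝒳 hqf h𝒰 hsep h hh H W z)
  choose W ψ hψ hψs hW using key
  let q := spMapOfOver (BasedFunctor.comp e (FibCat.fpFst y f))
  have hcov : AlgSp.IsFppfCover (fun t : T.left => (AlgSp.yon S).obj (W t)) (fun t => (AlgSp.yon S).map (ψ t)) := by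
    refine ⟨fun t => ⟨(Groth.L24.LocQ.locP_map_iff Groth.L23.etLocal_flat _).2 (by have := hψ t; infer_instance),
      (Groth.L24.LocQ.locP_map_iff Groth.L23.etLocal_lfp _).2 (by have := hψ t; infer_instance)⟩, fun x => ?_⟩
    obtain ⟨t, rfl⟩ := (AlgSp.Points.schemeEquiv T).surjective x
    obtain ⟨w, hw⟩ := hψs t
    refine ⟨t, AlgSp.Points.schemeHomeo (W t) w, ?_⟩
    rw [AlgSp.Points.map_yon_map_apply, hw]
    rfl
  refine (Groth.L23.isLocalOnBase_fpqc_finite _ _ (AlgSp.IsAlgSpace.yon_obj T)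
    (fun t => AlgSp.IsAlgSpace.yon_obj (W t))
    (Groth.L23.isFpqcCover_of_isFppfCover (AlgSp.IsAlgSpace.yon_obj T) (fun t => AlgSp.IsAlgSpace.yon_obj (W t)) hcov)
    q F.property (fun t => pullback q ((AlgSp.yon S).map (ψ t))) (fun t => pullback.snd _ _)
    (fun t => pullback.fst _ _) (fun t => isAlgSpace_pullback F.property (AlgSp.IsAlgSpace.yon_obj _)
      (AlgSp.IsAlgSpace.yon_obj T) _ _) (fun t => IsPullback.of_hasPullback _ _)).2 fun t => ?_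
  obtain ⟨hPs, Θ, hΘ, ⟨iΘ⟩, -⟩ := Groth.L24.LocQ.exists_space_square' y e he (AlgSp.IsAlgSpace.yon_obj (W t))
    (IsPullback.of_hasPullback q ((AlgSp.yon S).map (ψ t)))
  let c := BasedFunctor.comp (ofSpMap ((AlgSp.yon S).map (ψ t))) (toOverCat T)
  let M := fpMap (F := BasedFunctor.comp (overMap (ψ t)) y) (G := f)
    (F' := BasedFunctor.comp c y) (G' := f) (toOverCat (W t)) (BasedFunctor.id _)
    (whiskerR (Groth.L24.LocQ.yonToOverIso (ψ t)).symm y) (Iso.refl _)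
  have hM : FibCat.IsEquivOver M := fpMap_isEquivOver (toOverCat_isEquivOver _) (isEquivOver_id _) _ _
  have h1 := Wit.prop_of_equiv (fun _ _ _ _ i _ a ha => by
    rw [Groth.L23.isFiniteMor_iff] at ha ⊢
    exact Groth.L23.repWith_comp (Groth.L23.repWith_of_isIso i) ha) (hW t) hPs (BasedFunctor.comp Θ M)
    (isEquivOver_comp hΘ hM)
  have h2 : spMapOfOver (BasedFunctor.comp (BasedFunctor.comp Θ M)
      (FibCat.fpFst (BasedFunctor.comp (overMap (ψ t)) y) f)) = pullback.snd q ((AlgSp.yon S).map (ψ t)) := by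
    rw [show BasedFunctor.comp (BasedFunctor.comp Θ M) (FibCat.fpFst _ f) =
      BasedFunctor.comp (BasedFunctor.comp Θ (FibCat.fpFst (BasedFunctor.comp c y) f)) (toOverCat (W t)) from rfl,
      spMapOfOver_congr (whiskerR iΘ (toOverCat (W t))), spMapOfOver_ofSpMap_comp, spMapOfOver_toOverCat,
      Category.comp_id]
  rwa [h2] at h1

end Groth.L24.InertiaFin
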