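import Groth.Agent.L24.UnivClosed.Basic

/-!
Base change of a chart of a stack over a scheme.
-/

set_option autoImplicit false
set_option backward.isDefEq.respectTransparency false
set_option backward.isDefEq.respectTransparency.types false

universe u

open CategoryTheory CategoryTheory.Limits AlgebraicGeometry Opposite AlgSt

noncomputable section

namespace Groth.L24.UnivClosed

open Groth.L24.St

variable {S : Scheme.{u}} {𝒳 : AlgSt.Cat S} {V W : Over S} (p : 𝒳 ⥤ᵇ FibCat.overCat V)
  (w : FibCat.overCat W ⥤ᵇ 𝒳) {v : W ⟶ V} (iw : BasedFunctor.comp w p ≅ overMap v)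
  {T : Over S} (e : T ⟶ V)

/-- The comparison over `V` of the legs of the base change. -/
def baseIso : BasedFunctor.comp (overMap (pullback.snd v e)) (overMap e) ≅
    BasedFunctor.comp (BasedFunctor.comp (overMap (pullback.fst v e)) w) p :=
  (overMapCompIso _ _).symm ≪≫ eqToIso (by rw [pullback.condition]) ≪≫ overMapCompIso _ _ ≪≫
    whiskerL (overMap (pullback.fst v e)) iw.symm

/-- The base change of the chart. -/
def base : FibCat.overCat (pullback v e) ⥤ᵇ FibCat.fp (overMap e) p :=
  FibCat.fpLift (overMap (pullback.snd v e)) (BasedFunctor.comp (overMap (pullback.fst v e)) w) (baseIso p w iw e)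

/-- The chart of the base change as a fibre product. -/
def baseTo : FibCat.overCat (pullback v e) ⥤ᵇ FibCat.fp (FibCat.fpSnd (overMap e) p) w :=
  FibCat.fpLift (base p w iw e) (overMap (pullback.fst v e)) (Iso.refl _)

theorem isEquivOver_baseTo : FibCat.IsEquivOver (baseTo p w iw e) :=
  isEquivOver_of_comp (fpComp_isEquivOver (overMap e) w p)
    (isEquivOver_pullback (IsPullback.of_hasPullback v e).flip iw _ rfl rfl)

theorem repWith_base {P : MorphismProperty (AlgSp.Sp S)} (h : RepByAlgSpWith P w) :
    RepByAlgSpWith P (base p w iw e) :=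
  (repWith_precomp (isEquivOver_baseTo p w iw e) _).2 (repWith_fpFst (FibCat.fpSnd (overMap e) p) h)

variable (hg : FibCat.IsFibGrpd 𝒳.p)

include hg

theorem fibGrpd_base : FibCat.IsFibGrpd (FibCat.fp (overMap e) p).p :=
  L09.Fib.fp_isFibGrpd (overCat_isFibGrpd T) hg (overCat_isFibGrpd V)

/-- Points of the base change over a point of the chart. -/
theorem exists_base_point (P : Points (FibCat.fp (overMap e) p)) (x : W.left)
    (h : Points.ofChart w x = Points.map (FibCat.fpSnd (overMap e) p) P) :
    ∃ r, Points.ofChart (base p w iw e) r = P ∧ (pullback.fst v e).left r = x := by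
  obtain ⟨q, h1, h2⟩ := exists_points_fp (overCat_isFibGrpd W) hg (fibGrpd_base p e hg) w
    (FibCat.fpSnd (overMap e) p) P (ptOver x) h.symm
  obtain ⟨r', hr'⟩ := (bijective_map_of_isEquivOver (isEquivOver_baseTo p w iw e)).surjective q
  subst hr'
  obtain ⟨r, rfl⟩ := (overPtEquiv _).symm.surjective r'
  refine ⟨r, h1, (overPtEquiv W).symm.injective ?_⟩
  show ptOver _ = ptOver x
  rw [← h2, ← map_overMap_ptOver]
  rfl

variable {T' : Over S} (e' : T' ⟶ V) (l : T ⟶ T') (hl : l ≫ e' = e)

/-- The map of base changes along a map of the bases. -/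
def baseMap : FibCat.fp (overMap e) p ⥤ᵇ FibCat.fp (overMap e') p :=
  fpMap (overMap l) (BasedFunctor.id 𝒳) ((overMapCompIso l e').symm ≪≫ eqToIso (by rw [hl])) (Iso.refl _)

theorem map_fst_baseMap (P : Points (FibCat.fp (overMap e) p)) :
    Points.map (FibCat.fpFst _ _) (Points.map (baseMap p e e' l hl) P) =
      Points.map (overMap l) (Points.map (FibCat.fpFst _ _) P) := by
  rw [← map_comp_apply, ← map_comp_apply]
  rfl

/-- Cartesianness on points of the base changes of the chart. -/
theorem exists_base_pair (lR : pullback v e ⟶ pullback v e') (h₁ : lR ≫ pullback.fst v e' = pullback.fst v e)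
    (h₂ : lR ≫ pullback.snd v e' = pullback.snd v e ≫ l) (P : Points (FibCat.fp (overMap e) p))
    (d : (pullback v e').left) (h : Points.map (baseMap p e e' l hl) P = Points.ofChart (base p w iw e') d) :
    ∃ r, Points.ofChart (base p w iw e) r = P ∧ lR.left r = d := by
  obtain ⟨η, hη₁, hη₂⟩ := exists_points_fp (fibGrpd_base p e hg) (fibGrpd_base p e' hg) (overCat_isFibGrpd _)
    (baseMap p e e' l hl) (base p w iw e') (ptOver d) P h.symm
  obtain ⟨q, rfl⟩ := Points.mk_surjective η
  let a : Over (pullback v e') := q.obj.obj.fst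
  let b := q.obj.obj.snd
  let u : (Over.map (pullback.snd v e')).obj a ⟶ (Over.map l).obj b.obj.fst := q.obj.obj.iso.hom.hom.fst
  have hu : OverId (𝒳 := FibCat.overCat T') u := (fp_overId q.obj).map (FibCat.fpFst (overMap e') p)
  obtain ⟨eu, heu⟩ := left_of_overId hu
  change a.left = b.obj.fst.left at eu
  let c : a.left ⟶ b.obj.fst.left := eqToHom eu
  have hw : c ≫ b.obj.fst.hom ≫ l = a.hom ≫ pullback.snd v e' := by
    have := Over.w u
    rw [heu] at this
    exact this
  let r : a.left ⟶ pullback v e := pullback.lift (a.hom ≫ pullback.fst v e') (c ≫ b.obj.fst.hom) (by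
    rw [Category.assoc, pullback.condition, ← reassoc_of% hw, Category.assoc, hl])
  let rp : FPt (FibCat.overCat (pullback v e)) :=
    { K := q.K, str := q.str, obj := Over.mk r, lies := q.lies }
  have hr : r ≫ lR = a.hom := by
    apply pullback.hom_ext
    · rw [Category.assoc, h₁, pullback.lift_fst]
    · rw [Category.assoc, h₂, pullback.lift_snd_assoc, Category.assoc, hw]
  refine ⟨overPt (Points.mk rp), ?_, (overPtEquiv _).symm.injective ?_⟩
  · rw [ofChart_eq_map, Function.comp_apply, ptOver_overPt, ← hη₂]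
    let m : Over.mk (r ≫ pullback.fst v e) ⟶ (Over.map (pullback.fst v e')).obj a :=
      Over.homMk (𝟙 a.left) (by
        show 𝟙 _ ≫ a.hom ≫ _ = r ≫ _
        rw [Category.id_comp, pullback.lift_fst]
        rfl)
    have hm : OverId (𝒳 := FibCat.overCat W) m := OverId.of_eq rfl rfl
    let f₁ : Over.mk (r ≫ pullback.snd v e) ⟶ b.obj.fst := Over.homMk c (by
      show c ≫ b.obj.fst.hom = r ≫ _
      rw [pullback.lift_snd])
    have hf₁ : OverId (𝒳 := FibCat.overCat T) f₁ := OverId.of_eq eu rfl
    let f₂ := w.map m ≫ q.obj.obj.iso.hom.hom.snd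
    have hf₂ : OverId f₂ := (hm.map w).comp ((fp_overId q.obj).map (FibCat.fpSnd (overMap e') p))
    exact mk_eq_of_hom (p := rp.map (base p w iw e)) (q := q.map (FibCat.fpSnd _ _))
      (fpHom (x := (base p w iw e).obj (Over.mk r)) (y := b) f₁ f₂
        (overId_ext ((hf₁.map (overMap e)).comp (fp_overId b))
          ((fp_overId ((base p w iw e).obj (Over.mk r))).comp (hf₂.map p))))
  · show ptOver _ = ptOver d
    rw [← map_overMap_ptOver, ptOver_overPt, ← hη₁]
    exact mk_eq_of_hom (p := rp.map (overMap lR)) (q := q.map (FibCat.fpFst _ _))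
      (Over.homMk (𝟙 _) (by
        show 𝟙 _ ≫ a.hom = r ≫ lR
        rw [Category.id_comp, hr]))

end Groth.L24.UnivClosed
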