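import Groth.Agent.L18.DominatingDVR
import Mathlib.RingTheory.Spectrum.Prime.Topology
import Mathlib.RingTheory.LocalRing.ResidueField.Ideal
import Mathlib.RingTheory.Valuation.ValuationSubring
import Mathlib.RingTheory.DiscreteValuationRing.Basic

/-!
Specializations in finite type algebras realised by discrete valuation rings.
-/

set_option autoImplicit false

universe u

open IsLocalRing

namespace Groth.L24.UnivClosed

theorem exists_dvr_specialization {A D : Type u} [CommRing A] [IsNoetherianRing A] [CommRing D]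
    (φ : A →+* D) (hφ : φ.FiniteType) (P : PrimeSpectrum D) (q : PrimeSpectrum A)
    (hsp : P.comap φ ⤳ q) (hne : P.comap φ ≠ q) :
    ∃ (R : Type u) (_ : CommRing R) (_ : IsDomain R) (_ : IsDiscreteValuationRing R) (g : A →+* R)
      (h : D →+* FractionRing R), (algebraMap R (FractionRing R)).comp g = h.comp φ ∧
        RingHom.ker h = P.asIdeal ∧ (maximalIdeal R).comap g = q.asIdeal := by
  classical
  have hle : (P.comap φ).asIdeal ≤ q.asIdeal := (PrimeSpectrum.le_iff_specializes _ _).2 hsp
  let L := P.asIdeal.ResidueField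
  let π : D →+* L := algebraMap D L
  have hπ : RingHom.ker π = P.asIdeal := Ideal.ker_algebraMap_residueField _
  let ψ : A →+* L := π.comp φ
  have hunit : ∀ y : q.asIdeal.primeCompl, IsUnit (ψ y) := fun y => by
    refine isUnit_iff_ne_zero.2 fun h => y.2 (hle ?_)
    show φ y ∈ P.asIdeal
    rw [← hπ]
    exact h
  let Aq := Localization.AtPrime q.asIdeal
  let ψ' : Aq →+* L := IsLocalization.lift (M := q.asIdeal.primeCompl) hunit
  have hψ' : ∀ a, ψ' (algebraMap A Aq a) = ψ a := IsLocalization.lift_eq hunit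
  letI : Algebra Aq L := ψ'.toAlgebra
  letI : Algebra A D := φ.toAlgebra
  obtain ⟨s, hs⟩ := (show Algebra.FiniteType A D from hφ).out
  have hgen : Subfield.closure (Set.range (algebraMap Aq L) ∪ π '' (s : Set D)) = ⊤ := by
    have hD : ∀ d, π d ∈ Subfield.closure (Set.range (algebraMap Aq L) ∪ π '' (s : Set D)) := fun d => by
      induction (hs.ge (Algebra.mem_top (x := d))) using Algebra.adjoin_induction with
      | mem x hx => exact Subfield.subset_closure (Or.inr ⟨x, hx, rfl⟩)
      | algebraMap a => exact Subfield.subset_closure (Or.inl ⟨algebraMap A Aq a, hψ' a⟩)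
      | add x y _ _ hx hy => rw [map_add]; exact add_mem hx hy
      | mul x y _ _ hx hy => rw [map_mul]; exact mul_mem hx hy
    refine eq_top_iff.2 fun z _ => ?_
    obtain ⟨a, b, -, rfl⟩ := IsFractionRing.div_surjective (D ⧸ P.asIdeal) z
    obtain ⟨a, rfl⟩ := Ideal.Quotient.mk_surjective a
    obtain ⟨b, rfl⟩ := Ideal.Quotient.mk_surjective b
    exact div_mem (hD a) (hD b)
  have hker : RingHom.ker (algebraMap Aq L) ≠ maximalIdeal Aq := fun h => hne (PrimeSpectrum.ext (by
    ext a
    rw [← IsLocalization.AtPrime.comap_maximalIdeal Aq q.asIdeal, ← h, Ideal.mem_comap, RingHom.mem_ker,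
      show algebraMap Aq L (algebraMap A Aq a) = ψ a from hψ' a, ← RingHom.mem_ker]
    exact (SetLike.ext_iff.1 hπ (φ a)).symm))
  obtain ⟨R, hR, hAR, hmR⟩ := Groth.L18.exists_isDiscreteValuationRing_dominating
    (s.finite_toSet.image π) hgen hker
  let g' : Aq →+* R := ψ'.codRestrict R.toSubring hAR
  let g : A →+* R := g'.comp (algebraMap A Aq)
  let e := (FractionRing.algEquiv R L).symm
  refine ⟨R, inferInstance, inferInstance, hR, g, (e : L →+* FractionRing R).comp π, ?_, ?_, ?_⟩
  · refine RingHom.ext fun a => ?_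
    show algebraMap R _ (g a) = e (ψ a)
    rw [← hψ' a]
    exact (e.commutes (g a)).symm
  · refine Eq.trans ?_ hπ
    ext d
    simp [RingHom.mem_ker]
  · ext a
    rw [Ideal.mem_comap, mem_maximalIdeal, mem_nonunits_iff]
    refine ⟨fun hu => ?_, fun ha hu => ?_⟩
    · by_contra ha
      exact hu ((IsLocalization.map_units (M := q.asIdeal.primeCompl) Aq ⟨a, ha⟩).map g')
    · have hm : algebraMap A Aq a ∈ maximalIdeal Aq :=
        (IsLocalization.AtPrime.to_map_mem_maximal_iff Aq q.asIdeal a).2 ha
      exact (R.valuation_lt_one_iff (g a)).2 (hmR _ hm) hu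

end Groth.L24.UnivClosed
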