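import Groth.Agent.L24.UnivClosed.InertiaFinite
import Groth.Agent.L24.St.SpaceStack
import Groth.Prelude.Def_StCoarse

/-!
The inertia of a stack with a separated moduli space.
-/

set_option autoImplicit false
set_option backward.isDefEq.respectTransparency false
set_option backward.isDefEq.respectTransparency.types false

universe u

open CategoryTheory CategoryTheory.Limits AlgebraicGeometry Opposite AlgSt

noncomputable section

namespace Groth.L24.InertiaFin

open Groth.L24.St

variable {S : Scheme.{u}} {𝒳 : AlgSt.Cat S} {M : AlgSp.Sp S}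

/-- The inertia over the base as the inertia over a sheaf. -/
def inertiaOverSheaf (π : 𝒳 ⥤ᵇ ofSp M) : FibCat.inertia (FibCat.toSelf 𝒳) ⥤ᵇ FibCat.inertia π where
  toFunctor :=
    { obj := fun z => ⟨z.pt, z.aut, by
        rw [show π.map z.aut.hom = π.map (𝟙 z.pt) from ofPsh_faithful π (by
          rw [show 𝒳.p.map z.aut.hom = 𝟙 _ from z.map_aut, CategoryTheory.Functor.map_id])]
        exact π.toFunctor.map_id _⟩
      map := fun f => ⟨f.hom, f.comm⟩
      map_id := fun _ => rfl
      map_comp := fun _ _ => rfl }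
  w := rfl

theorem isEquivOver_inertiaOverSheaf (π : 𝒳 ⥤ᵇ ofSp M) : FibCat.IsEquivOver (inertiaOverSheaf π) := by
  have : (inertiaOverSheaf π).toFunctor.Faithful := ⟨fun {a b f g} e => FibCat.InertiaObj.hom_ext
    (congrArg (fun k : (inertiaOverSheaf π).obj a ⟶ (inertiaOverSheaf π).obj b => k.hom) e)⟩
  have : (inertiaOverSheaf π).toFunctor.Full := ⟨fun {a b} m => ⟨⟨m.hom, m.comm⟩, rfl⟩⟩
  refine isEquivOver_of_overId _ fun η => ?_
  refine ⟨⟨η.pt, η.aut, ?_⟩, Iso.refl η, overId_id η⟩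
  show 𝒳.p.map η.aut.hom = 𝟙 _
  have h := p_map_map π η.aut.hom
  rw [show π.map η.aut.hom = 𝟙 _ from η.map_aut, CategoryTheory.Functor.map_id] at h
  rw [eq_comm, eqToHom_comp_iff, comp_eqToHom_iff] at h
  rw [h]
  simp

theorem finite_inertia_of_separated (h𝒳 : IsAlgStack Scheme.fppfPrecoverage 𝒳) (hqf : IsQuasiDMOver 𝒳)
    (hM : AlgSp.IsAlgSpace M) (π : 𝒳 ⥤ᵇ ofSp M) (hsep : IsSeparatedMor π) :
    RepByAlgSpWith AlgSp.IsFiniteMor (FibCat.inertiaToBase (FibCat.toSelf 𝒳)) :=
  repWith_finite_of_proper_lqf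
    ((repWith_precomp (isEquivOver_inertiaOverSheaf π) (FibCat.inertiaToBase π)).2
      (inertiaToBase_repWith h𝒳 (isAlgStack_of_repByAlgSp ⟨⟨M, hM⟩, _, isEquivOver_id _⟩) hsep))
    (inertiaToBase_repWith h𝒳 isAlgStack_selfOver hqf)

end Groth.L24.InertiaFin
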