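import Groth.Agent.L24.UnivClosed.BaseChart
import Groth.Agent.L24.UnivClosed.Dvr
import Mathlib.AlgebraicGeometry.Morphisms.FiniteType

/-!
The criterion with discrete valuation rings gives closedness over Noetherian affine schemes.
-/

set_option autoImplicit false
set_option backward.isDefEq.respectTransparency false
set_option backward.isDefEq.respectTransparency.types false

universe u

open CategoryTheory CategoryTheory.Limits AlgebraicGeometry Opposite AlgSt Topology IsLocalRing

noncomputable section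

namespace Groth.L24.UnivClosed

open Groth.L24.St

variable {S : Scheme.{u}} {𝒳 𝒴 : AlgSt.Cat S}

/-- The valuative criterion with extensions by discrete valuation rings. -/
def DvrLifts (f : 𝒳 ⥤ᵇ 𝒴) : Prop :=
  ∀ (R : Type u) [CommRing R] [IsDomain R] [IsDiscreteValuationRing R]
    (sR : Spec (CommRingCat.of R) ⟶ S)
    (a : FibCat.overCat (Over.mk (Spec.map (CommRingCat.ofHom (algebraMap R (FractionRing R))) ≫ sR)) ⥤ᵇ 𝒳)
    (b : FibCat.overCat (Over.mk sR) ⥤ᵇ 𝒴)
    (α : BasedFunctor.comp a f ≅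
      BasedFunctor.comp (AlgSt.overMap (Over.homMk (Spec.map (CommRingCat.ofHom (algebraMap R (FractionRing R)))) rfl :
        Over.mk (Spec.map (CommRingCat.ofHom (algebraMap R (FractionRing R))) ≫ sR) ⟶ Over.mk sR)) b),
    ∃ (R' : Type u) (_ : CommRing R') (_ : IsDomain R') (_ : IsDiscreteValuationRing R') (φ : R →+* R')
      (_ : Function.Injective φ) (_ : IsLocalHom φ)
      (gψ : (Over.mk (Spec.map (CommRingCat.ofHom (algebraMap R' (FractionRing R'))) ≫
              Spec.map (CommRingCat.ofHom φ) ≫ sR) : Over S) ⟶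
            Over.mk (Spec.map (CommRingCat.ofHom (algebraMap R (FractionRing R))) ≫ sR))
      (c : FibCat.overCat (Over.mk (Spec.map (CommRingCat.ofHom φ) ≫ sR)) ⥤ᵇ FibCat.fp f b),
      gψ ≫ (Over.homMk (Spec.map (CommRingCat.ofHom (algebraMap R (FractionRing R)))) rfl :
          Over.mk (Spec.map (CommRingCat.ofHom (algebraMap R (FractionRing R))) ≫ sR) ⟶ Over.mk sR) =
        (Over.homMk (Spec.map (CommRingCat.ofHom (algebraMap R' (FractionRing R')))) rfl :
            Over.mk (Spec.map (CommRingCat.ofHom (algebraMap R' (FractionRing R'))) ≫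
              Spec.map (CommRingCat.ofHom φ) ≫ sR) ⟶ Over.mk (Spec.map (CommRingCat.ofHom φ) ≫ sR)) ≫
          (Over.homMk (Spec.map (CommRingCat.ofHom φ)) rfl :
            Over.mk (Spec.map (CommRingCat.ofHom φ) ≫ sR) ⟶ Over.mk sR) ∧
      Nonempty (BasedFunctor.comp c (FibCat.fpSnd f b) ≅
        AlgSt.overMap (Over.homMk (Spec.map (CommRingCat.ofHom φ)) rfl :
          Over.mk (Spec.map (CommRingCat.ofHom φ) ≫ sR) ⟶ Over.mk sR)) ∧
      Nonempty (BasedFunctor.comp
          (AlgSt.overMap (Over.homMk (Spec.map (CommRingCat.ofHom (algebraMap R' (FractionRing R')))) rfl :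
            Over.mk (Spec.map (CommRingCat.ofHom (algebraMap R' (FractionRing R'))) ≫
              Spec.map (CommRingCat.ofHom φ) ≫ sR) ⟶ Over.mk (Spec.map (CommRingCat.ofHom φ) ≫ sR))) c ≅
        BasedFunctor.comp (AlgSt.overMap gψ)
          (FibCat.fpLift a
            (AlgSt.overMap (Over.homMk (Spec.map (CommRingCat.ofHom (algebraMap R (FractionRing R)))) rfl :
              Over.mk (Spec.map (CommRingCat.ofHom (algebraMap R (FractionRing R))) ≫ sR) ⟶ Over.mk sR)) α))

variable (f : 𝒳 ⥤ᵇ 𝒴) {V W T : Over S} (b0 : FibCat.overCat V ⥤ᵇ 𝒴)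
  (w : FibCat.overCat W ⥤ᵇ FibCat.fp b0 f) {v : W ⟶ V}
  (iw : BasedFunctor.comp w (FibCat.fpFst b0 f) ≅ overMap v) (e : T ⟶ V)

include iw in
theorem hasAtlas_base (hw : RepByAlgSpWith (AlgSp.LocP @Smooth) w)
    (hws : RepByAlgSpWith AlgSp.IsSurjectiveMor w) :
    HasAtlas (AlgSp.LocP @Smooth) (FibCat.fp (overMap e) (FibCat.fpFst b0 f)) :=
  ⟨_, _, repWith_base _ w iw e hw, repWith_base _ w iw e hws⟩

variable (h𝒳 : FibCat.IsFibGrpd 𝒳.p) (h𝒴 : FibCat.IsFibGrpd 𝒴.p)

include h𝒳 h𝒴

theorem surjective_ofChart_base (hws : RepByAlgSpWith AlgSp.IsSurjectiveMor w) :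
    Function.Surjective (Points.ofChart (base _ w iw e)) :=
  surjective_ofChart_of_repWith
    (fibGrpd_base _ e (L09.Fib.fp_isFibGrpd (overCat_isFibGrpd V) h𝒳 h𝒴)) (repWith_base _ w iw e hws)

/-- Closed sets of points have closed images in a Noetherian affine scheme. -/
theorem isClosed_image_of_noeth (hw : RepByAlgSpWith (AlgSp.LocP @Smooth) w)
    (hws : RepByAlgSpWith AlgSp.IsSurjectiveMor w) (hval : DvrLifts f) [IsAffine T.left]
    [IsLocallyNoetherian T.left] [IsAffine W.left] [IsAffine V.left] [LocallyOfFiniteType v.left]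
    {C : Set (Points (FibCat.fp (overMap e) (FibCat.fpFst b0 f)))} (hC : IsClosed C) :
    IsClosed ((pullback.snd v e).left '' (Points.ofChart (base _ w iw e) ⁻¹' C)) := by
  have hfp := L09.Fib.fp_isFibGrpd (overCat_isFibGrpd V) h𝒳 h𝒴 (F := b0) (G := f)
  have hfpn := fibGrpd_base (FibCat.fpFst b0 f) e hfp
  have hcont : ∀ {Z : Over S} (z : FibCat.overCat Z ⥤ᵇ FibCat.fp (overMap e) (FibCat.fpFst b0 f)),
      Continuous (Points.ofChart z) := fun z =>
    continuous_ofChart_of_atlas hfpn (hasAtlas_base f b0 w iw e hw hws) z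
  let π := (pullback.snd v e).left
  have sq := (IsPullback.of_hasPullback v e).map (Over.forget S)
  have hπft : LocallyOfFiniteType π := MorphismProperty.of_isPullback sq (inferInstance : LocallyOfFiniteType v.left)
  have : IsAffine ((Over.forget S).obj W) := inferInstanceAs (IsAffine W.left)
  have : IsAffine ((Over.forget S).obj T) := inferInstanceAs (IsAffine T.left)
  have : IsAffine ((Over.forget S).obj V) := inferInstanceAs (IsAffine V.left)
  have : IsAffine (pullback v e).left := IsAffine.of_isPullback sq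
  let A := Γ(T.left, ⊤)
  let D := Γ((pullback v e).left, ⊤)
  let φ : A ⟶ D := π.appTop
  have hnat : Spec.map φ ≫ T.left.isoSpec.inv = (pullback v e).left.isoSpec.inv ≫ π :=
    Scheme.isoSpec_inv_naturality π
  have : IsLocallyNoetherian (Spec A) :=
    have := LocallyOfFiniteType.isLocallyNoetherian T.left.isoSpec.inv
    this
  have hA : IsNoetherianRing A := isLocallyNoetherian_Spec.1 this
  have hφ : φ.hom.FiniteType := by
    refine (HasRingHomProperty.Spec_iff (P := @LocallyOfFiniteType)).1 ?_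
    rw [show Spec.map φ = ((pullback v e).left.isoSpec.inv ≫ π) ≫ T.left.isoSpec.hom by
      rw [← hnat, Category.assoc, Iso.inv_hom_id, Category.comp_id]]
    infer_instance
  let Z := (pullback v e).left.isoSpec.inv ⁻¹' (Points.ofChart (base _ w iw e) ⁻¹' C)
  have hZ : IsClosed Z := (hC.preimage (hcont _)).preimage (Scheme.Hom.continuous _)
  suffices h : StableUnderSpecialization (PrimeSpectrum.comap φ.hom '' Z) by
    have h2 := T.left.isoSpec.inv.homeomorph.isClosedMap _
      (PrimeSpectrum.isClosed_image_of_stableUnderSpecialization φ.hom Z hZ h)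
    convert h2 using 1
    ext t
    constructor
    · rintro ⟨r, hr, rfl⟩
      refine ⟨Spec.map φ ((pullback v e).left.isoSpec.hom r), ⟨(pullback v e).left.isoSpec.hom r, ?_, rfl⟩, ?_⟩
      · show (pullback v e).left.isoSpec.inv _ ∈ Points.ofChart (base _ w iw e) ⁻¹' C
        rw [← Scheme.Hom.comp_apply, Iso.hom_inv_id]
        exact hr
      · show T.left.isoSpec.inv _ = π r
        rw [← Scheme.Hom.comp_apply, hnat, Scheme.Hom.comp_apply, ← Scheme.Hom.comp_apply _ _ r, Iso.hom_inv_id]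
        rfl
    · rintro ⟨_, ⟨x, hx, rfl⟩, rfl⟩
      refine ⟨(pullback v e).left.isoSpec.inv x, hx, ?_⟩
      show π _ = T.left.isoSpec.inv (Spec.map φ x)
      rw [← Scheme.Hom.comp_apply, ← Scheme.Hom.comp_apply, hnat]
  rintro _ q hsp ⟨x, hx, rfl⟩
  rcases eq_or_ne (PrimeSpectrum.comap φ.hom x) q with rfl | hne
  · exact ⟨x, hx, rfl⟩
  obtain ⟨R, _, _, _, g, h, hgh, hker, hmax⟩ := exists_dvr_specialization φ.hom hφ x q hsp hne
  let G : Spec (CommRingCat.of R) ⟶ Spec A := Spec.map (CommRingCat.ofHom g)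
  let sR : Spec (CommRingCat.of R) ⟶ S := G ≫ T.left.isoSpec.inv ≫ T.hom
  let toT : Over.mk sR ⟶ T := Over.homMk (G ≫ T.left.isoSpec.inv) (Category.assoc _ _ _)
  let jK : Over.mk (Spec.map (CommRingCat.ofHom (algebraMap R (FractionRing R))) ≫ sR) ⟶ Over.mk sR :=
    Over.homMk (Spec.map (CommRingCat.ofHom (algebraMap R (FractionRing R)))) rfl
  have hK : Spec.map (CommRingCat.ofHom h) ≫ (pullback v e).left.isoSpec.inv ≫ π = jK.left ≫ toT.left := by
    rw [← hnat, ← Category.assoc, ← Spec.map_comp]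
    show _ = Spec.map _ ≫ Spec.map _ ≫ T.left.isoSpec.inv
    rw [← Category.assoc, ← Spec.map_comp]
    congr 2
    exact CommRingCat.hom_ext hgh.symm
  let kR : Over.mk (Spec.map (CommRingCat.ofHom (algebraMap R (FractionRing R))) ≫ sR) ⟶ pullback v e :=
    Over.homMk (Spec.map (CommRingCat.ofHom h) ≫ (pullback v e).left.isoSpec.inv) (by
      show (_ ≫ _) ≫ (pullback v e).hom = jK.left ≫ sR
      refine Eq.trans ?_ (((congrArg (fun k => k ≫ T.hom) hK).trans (Category.assoc _ _ _)).trans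
        (congrArg (fun k => jK.left ≫ k) (Over.w toT)))
      rw [← Over.w (pullback.snd v e)]
      simp only [Category.assoc]
      rfl)
  have hk : kR ≫ pullback.snd v e = jK ≫ toT := Over.OverMorphism.ext ((Category.assoc _ _ _).trans hK)
  let eR := toT ≫ e
  let X := BasedFunctor.comp (overMap (kR ≫ pullback.fst v e)) w
  let iV : BasedFunctor.comp X (FibCat.fpFst b0 f) ≅ BasedFunctor.comp (overMap jK) (overMap eR) :=
    whiskerL (overMap (kR ≫ pullback.fst v e)) iw ≪≫ (overMapCompIso _ _).symm ≪≫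
      eqToIso (by rw [Category.assoc, pullback.condition, reassoc_of% hk]) ≪≫ overMapCompIso _ _
  let a := BasedFunctor.comp X (FibCat.fpSnd b0 f)
  let α : BasedFunctor.comp a f ≅ BasedFunctor.comp (overMap jK) (BasedFunctor.comp (overMap eR) b0) :=
    whiskerL X (FibCat.fpIso b0 f).symm ≪≫ whiskerR iV b0
  obtain ⟨R', _, _, _, φ', -, hloc, gψ, c, hgψ, ⟨i1⟩, ⟨i2⟩⟩ := hval R sR a _ α
  let φM : Over.mk (Spec.map (CommRingCat.ofHom φ') ≫ sR) ⟶ Over.mk sR :=
    Over.homMk (Spec.map (CommRingCat.ofHom φ')) rfl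
  let jK' : Over.mk (Spec.map (CommRingCat.ofHom (algebraMap R' (FractionRing R'))) ≫
      Spec.map (CommRingCat.ofHom φ') ≫ sR) ⟶ Over.mk (Spec.map (CommRingCat.ofHom φ') ≫ sR) :=
    Over.homMk (Spec.map (CommRingCat.ofHom (algebraMap R' (FractionRing R')))) rfl
  let M0 : FibCat.fp f (BasedFunctor.comp (overMap eR) b0) ⥤ᵇ FibCat.fp b0 f :=
    BasedFunctor.comp fpSwap (fpMap (overMap eR) (BasedFunctor.id 𝒳) (Iso.refl _) (Iso.refl _))
  let c0 := BasedFunctor.comp c M0
  let i0 : BasedFunctor.comp (overMap (φM ≫ toT)) (overMap e) ≅ BasedFunctor.comp c0 (FibCat.fpFst b0 f) :=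
    (overMapCompIso _ _).symm ≪≫ eqToIso (by rw [Category.assoc]) ≪≫ overMapCompIso φM eR ≪≫
      whiskerR i1.symm (overMap eR)
  let c' := FibCat.fpLift (overMap (φM ≫ toT)) c0 i0
  have key : Points.ofChart (BasedFunctor.comp (overMap jK') c') =
      Points.ofChart (BasedFunctor.comp (overMap (gψ ≫ kR)) (base _ w iw e)) := by
    refine ofChart_eq_of_hom fun o => ?_
    let o' := (Over.map gψ).obj o
    let η := X.obj o'
    let n₁ : (overMap eR).obj ((overMap jK).obj o') ⟶ η.obj.fst := (appIso iV o').inv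
    let m : M0.obj ((FibCat.fpLift a (overMap jK) α).obj o') ⟶ η := fpHom n₁ (𝟙 _) (by
      show b0.map n₁ ≫ η.obj.iso.hom =
        (𝟙 _ ≫ (b0.map (appIso iV o').inv ≫ η.obj.iso.hom) ≫ 𝟙 _) ≫ f.map (𝟙 _)
      simp [n₁])
    have hm : OverId m := overId_fp _ (overId_app iV.inv o')
    have e1 : gψ ≫ kR ≫ pullback.snd v e = jK' ≫ φM ≫ toT := by
      exact (congrArg (fun k => gψ ≫ k) hk).trans ((Category.assoc _ _ _).symm.trans
        ((congrArg (fun k => k ≫ toT) hgψ).trans (Category.assoc _ _ _)))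
    let m₁ : (Over.map (φM ≫ toT)).obj ((Over.map jK').obj o) ⟶
        (Over.map (pullback.snd v e)).obj ((Over.map (gψ ≫ kR)).obj o) := Over.homMk (𝟙 _) (by
      show 𝟙 _ ≫ (o.hom ≫ gψ ≫ kR) ≫ pullback.snd v e = (o.hom ≫ jK') ≫ φM ≫ toT
      simp only [Category.id_comp, Category.assoc, e1])
    let m₂ : (Over.map (kR ≫ pullback.fst v e)).obj o' ⟶
        (Over.map (pullback.fst v e)).obj ((Over.map (gψ ≫ kR)).obj o) := Over.homMk (𝟙 _) (by
      show 𝟙 _ ≫ (o.hom ≫ gψ ≫ kR) ≫ pullback.fst v e = (o.hom ≫ gψ) ≫ kR ≫ pullback.fst v e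
      simp only [Category.id_comp, Category.assoc])
    let n := M0.map (appIso i2 o).hom ≫ m ≫ w.map m₂
    have hm₁ : OverId (𝒳 := FibCat.overCat T) m₁ := OverId.of_eq rfl rfl
    have hm₂ : OverId (𝒳 := FibCat.overCat W) m₂ := OverId.of_eq rfl rfl
    have hn : OverId n := ((overId_app i2.hom o).map M0).comp (hm.comp (hm₂.map w))
    exact ⟨fpHom (x := c'.obj ((overMap jK').obj o))
      (y := (base _ w iw e).obj ((overMap (gψ ≫ kR)).obj o)) m₁ n
      (overId_ext ((hm₁.map (overMap e)).comp (fp_overId _))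
        ((fp_overId _).comp (hn.map (FibCat.fpFst b0 f))))⟩
  have hZ' : IsClosed (Points.ofChart c' ⁻¹' C) := hC.preimage (hcont _)
  let s₀ : PrimeSpectrum (FractionRing R') := ⟨⊥, Ideal.bot_prime⟩
  have hgen : jK'.left s₀ ∈ Points.ofChart c' ⁻¹' C := by
    show Points.ofChart c' _ ∈ C
    rw [← ofChart_overMap_comp, congrFun key, ofChart_overMap_comp]
    show (Spec.map (CommRingCat.ofHom h) ≫ (pullback v e).left.isoSpec.inv) (gψ.left s₀) ∈
      Points.ofChart (base _ w iw e) ⁻¹' C
    rw [Scheme.Hom.comp_apply]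
    have : Spec.map (CommRingCat.ofHom h) (gψ.left s₀) = x := PrimeSpectrum.ext (by
      show ((gψ.left s₀ : PrimeSpectrum (FractionRing R))).asIdeal.comap h = _
      rw [(Ideal.eq_bot_or_top (gψ.left s₀ : PrimeSpectrum (FractionRing R)).asIdeal).resolve_right
        (gψ.left s₀ : PrimeSpectrum (FractionRing R)).isPrime.ne_top, ← RingHom.ker_eq_comap_bot, hker])
    rw [this]
    exact hx
  let m' : PrimeSpectrum R' := IsLocalRing.closedPoint R'
  have hm' : Points.ofChart c' m' ∈ C := by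
    refine hZ'.stableUnderSpecialization ((PrimeSpectrum.le_iff_specializes _ _).1 ?_) hgen
    intro r hr
    have hr' : algebraMap R' (FractionRing R') r ∈ (⊥ : Ideal (FractionRing R')) := hr
    rw [Ideal.mem_bot, map_eq_zero_iff _ (IsFractionRing.injective R' (FractionRing R'))] at hr'
    rw [hr']
    exact Ideal.zero_mem _
  obtain ⟨r, hr⟩ := surjective_ofChart_base f b0 w iw e h𝒳 h𝒴 hws (Points.ofChart c' m')
  refine ⟨(pullback v e).left.isoSpec.hom r, ?_, ?_⟩
  · show (pullback v e).left.isoSpec.inv _ ∈ Points.ofChart (base _ w iw e) ⁻¹' C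
    rw [← Scheme.Hom.comp_apply, Iso.hom_inv_id]
    show Points.ofChart (base _ w iw e) r ∈ C
    rw [hr]
    exact hm'
  · have h1 : ptOver ((pullback.snd v e).left r) = ptOver ((φM ≫ toT).left m') := by
      rw [← map_overMap_ptOver, ← map_overMap_ptOver]
      exact congrArg (Points.map (FibCat.fpFst _ _)) hr |> fun h => by
        rw [ofChart_eq_map, ofChart_eq_map, Function.comp_apply, Function.comp_apply, ← map_comp_apply,
          ← map_comp_apply] at h
        exact h
    have h2 : π r = T.left.isoSpec.inv (G (Spec.map (CommRingCat.ofHom φ') m')) :=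
      ((overPtEquiv T).symm.injective h1).trans rfl
    apply T.left.isoSpec.inv.homeomorph.injective
    show T.left.isoSpec.inv (Spec.map φ _) = T.left.isoSpec.inv q
    rw [← Scheme.Hom.comp_apply, hnat, ← Scheme.Hom.comp_apply, Iso.hom_inv_id_assoc, h2]
    congr 1
    refine PrimeSpectrum.ext ?_
    show ((maximalIdeal R').comap φ').comap g = q.asIdeal
    have hc : (maximalIdeal R').comap φ' = maximalIdeal R := ((IsLocalRing.local_hom_TFAE φ').out 0 4).mp hloc
    rw [hc, hmax]

end Groth.L24.UnivClosed
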