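import Groth.Agent.L24.UnivClosed.Reduce
import Groth.Agent.L24.St.Spectral
import Mathlib.RingTheory.PowerSeries.Inverse
import Mathlib.AlgebraicGeometry.Noetherian

/-!
Specializations in Noetherian stacks realised by discrete valuation rings.
-/

set_option autoImplicit false
set_option backward.isDefEq.respectTransparency false
set_option backward.isDefEq.respectTransparency.types false

universe u

open CategoryTheory CategoryTheory.Limits AlgebraicGeometry Opposite AlgSt Topology IsLocalRing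

noncomputable section

namespace Groth.L24.UnivClosed

open Groth.L24.St

variable {S : Scheme.{u}} {𝒳 𝒴 : AlgSt.Cat S}

/-- The image of an affine chart is an open spectral subspace. -/
theorem spectralSpace_range_chart_of_atlas [QuasiSeparatedSpace S] (hg : FibCat.IsFibGrpd 𝒳.p)
    (ha : HasAtlas (AlgSp.LocP @Smooth) 𝒳)
    (hΔ : RepByAlgSpWith AlgSp.IsQuasiCompactMor (FibCat.diag (FibCat.toSelf 𝒳))) {U : Over S} [IsAffine U.left]
    {x : FibCat.overCat U ⥤ᵇ 𝒳} (hx : RepByAlgSpWith (AlgSp.LocP @Smooth) x) :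
    IsOpen (Set.range (Points.ofChart x)) ∧ SpectralSpace ↥(Set.range (Points.ofChart x)) := by
  have ho := isOpenMap_ofChart isOpenMap_of_smooth hg hx
  obtain ⟨W, ψ, ρ, hW, hw, hrel⟩ := exists_affine_rel hg hΔ x x
  have : SpectralSpace ↥U.left := {}
  have : SpectralSpace ↥W.left := {}
  refine ⟨ho.isOpen_range, ?_⟩
  exact Top.spectralSpace_of_rel (f := Set.rangeFactorization (Points.ofChart x))
    ((continuous_ofChart_of_atlas hg ha x).subtype_mk _)
    (fun O hO => by
      refine isOpen_induced_iff.2 ⟨Points.ofChart x '' O, ho O hO, ?_⟩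
      ext ⟨z, hz⟩
      simp only [Set.mem_preimage, Set.mem_image, Set.rangeFactorization, Subtype.mk.injEq])
    Set.rangeFactorization_surjective ψ.left.isSpectralMap ρ.left.isSpectralMap
    (fun w => Subtype.ext (hw w)) (fun t v e => hrel t v (congrArg Subtype.val e))

theorem exists_spectral_nhd_of_atlas [QuasiSeparatedSpace S] (hg : FibCat.IsFibGrpd 𝒳.p)
    (ha : HasAtlas (AlgSp.LocP @Smooth) 𝒳)
    (hΔ : RepByAlgSpWith AlgSp.IsQuasiCompactMor (FibCat.diag (FibCat.toSelf 𝒳))) (p : Points 𝒳) :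
    ∃ U : Set (Points 𝒳), IsOpen U ∧ p ∈ U ∧ SpectralSpace ↥U := by
  obtain ⟨V, y, hy, hys⟩ := id ha
  obtain ⟨t, rfl⟩ := surjective_ofChart_of_repWith hg hys p
  obtain ⟨O, hO, ht, -⟩ := V.left.isBasis_affineOpens.exists_subset_of_mem_open (Set.mem_univ t) isOpen_univ
  obtain ⟨O', hO', rfl⟩ := hO
  let j : Over.mk (Scheme.Opens.ι (X := V.left) O' ≫ V.hom) ⟶ V := Over.homMk (Scheme.Opens.ι (X := V.left) O') rfl
  have : IsAffine (Over.mk (Scheme.Opens.ι (X := V.left) O' ≫ V.hom)).left := hO'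
  have : Etale j.left := inferInstanceAs (Etale (Scheme.Opens.ι (X := V.left) O'))
  obtain ⟨h1, h2⟩ := spectralSpace_range_chart_of_atlas hg ha hΔ (smooth_overMap_comp j hy)
  exact ⟨_, h1, ⟨(⟨t, ht⟩ : (Scheme.Opens.toScheme (X := V.left) O')), ofChart_overMap_comp j y (⟨t, ht⟩ : (Scheme.Opens.toScheme (X := V.left) O'))⟩, h2⟩

/-- Points of a stack with quasi-compact diagonal are separated by opens. -/
theorem t0Space_points_of_atlas [QuasiSeparatedSpace S] (hg : FibCat.IsFibGrpd 𝒳.p)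
    (ha : HasAtlas (AlgSp.LocP @Smooth) 𝒳)
    (hΔ : RepByAlgSpWith AlgSp.IsQuasiCompactMor (FibCat.diag (FibCat.toSelf 𝒳))) :
    T0Space (Points 𝒳) := ⟨fun p q hpq => by
  obtain ⟨U, hU, hpU, hs⟩ := exists_spectral_nhd_of_atlas hg ha hΔ p
  have hqU : q ∈ U := (hpq.mem_open_iff hU).1 hpU
  have : Inseparable (⟨p, hpU⟩ : ↥U) ⟨q, hqU⟩ := subtype_inseparable_iff _ _ |>.2 hpq
  exact congrArg Subtype.val this.eq⟩

/-- As `exists_dvr_specialization`, allowing equality. -/
theorem exists_dvr_specialization_or_eq {A D : Type u} [CommRing A] [IsNoetherianRing A] [CommRing D]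
    (φ : A →+* D) (hφ : φ.FiniteType) (P : PrimeSpectrum D) (q : PrimeSpectrum A)
    (hsp : P.comap φ ⤳ q) :
    ∃ (R : Type u) (_ : CommRing R) (_ : IsDomain R) (_ : IsDiscreteValuationRing R) (g : A →+* R)
      (h : D →+* FractionRing R), (algebraMap R (FractionRing R)).comp g = h.comp φ ∧
        RingHom.ker h = P.asIdeal ∧ (maximalIdeal R).comap g = q.asIdeal := by
  by_cases hne : P.comap φ = q
  swap
  · exact exists_dvr_specialization φ hφ P q hsp hne
  subst hne
  let L := P.asIdeal.ResidueField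
  let π : D →+* L := algebraMap D L
  let c : L →+* PowerSeries L := PowerSeries.C
  refine ⟨PowerSeries L, inferInstance, inferInstance, inferInstance, c.comp (π.comp φ),
    (algebraMap (PowerSeries L) _).comp (c.comp π), rfl, ?_, ?_⟩
  · refine Eq.trans ?_ (Ideal.ker_algebraMap_residueField P.asIdeal)
    ext d
    simp [RingHom.mem_ker, π, c, L]
  · ext a
    rw [Ideal.mem_comap, mem_maximalIdeal, mem_nonunits_iff, PowerSeries.isUnit_iff_constantCoeff]
    show ¬ IsUnit (PowerSeries.constantCoeff (PowerSeries.C (π (φ a)))) ↔ φ a ∈ P.asIdeal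
    rw [PowerSeries.constantCoeff_C, isUnit_iff_ne_zero, not_not, ← RingHom.mem_ker,
      Ideal.ker_algebraMap_residueField]

/-- Specializations of images are realised by discrete valuation rings. -/
theorem exists_dvr_realizing [QuasiSeparatedSpace S] (f : 𝒳 ⥤ᵇ 𝒴)
    (h𝒳 : IsAlgStack Scheme.etalePrecoverage 𝒳) (h𝒴 : IsAlgStack Scheme.etalePrecoverage 𝒴)
    (hn : SmoothLocally (fun X => IsLocallyNoetherian X) 𝒴)
    (hΔ : RepByAlgSpWith AlgSp.IsQuasiCompactMor (FibCat.diag (FibCat.toSelf 𝒳)))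
    (hqc : IsQuasiCompactMor Scheme.etalePrecoverage f) (hft : LocQ (AlgSp.LocP @LocallyOfFiniteType) f)
    (x : Points 𝒳) (y₀ : Points 𝒴) (hsp : Points.map f x ⤳ y₀) :
    ∃ (R : Type u) (_ : CommRing R) (_ : IsDomain R) (_ : IsDiscreteValuationRing R)
      (sR : Spec (CommRingCat.of R) ⟶ S)
      (a : FibCat.overCat (Over.mk (Spec.map (CommRingCat.ofHom (algebraMap R (FractionRing R))) ≫ sR)) ⥤ᵇ 𝒳)
      (b : FibCat.overCat (Over.mk sR) ⥤ᵇ 𝒴),
      Nonempty (BasedFunctor.comp a f ≅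
        BasedFunctor.comp (AlgSt.overMap (Over.homMk (Spec.map (CommRingCat.ofHom (algebraMap R (FractionRing R)))) rfl :
          Over.mk (Spec.map (CommRingCat.ofHom (algebraMap R (FractionRing R))) ≫ sR) ⟶ Over.mk sR)) b) ∧
      (∀ p, AlgSt.Points.ofChart a p = x) ∧
      AlgSt.Points.ofChart b (IsLocalRing.closedPoint R) = y₀ := by
  have g𝒳 := h𝒳.isStack.1
  have g𝒴 := h𝒴.isStack.1
  have := t0Space_points_of_atlas g𝒳 h𝒳.atlas hΔ
  -- an affine chart through the special point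
  obtain ⟨V', vb, hvb, hvbs⟩ := h𝒴.atlas
  obtain ⟨v₀, rfl⟩ := surjective_ofChart_of_repWith g𝒴 hvbs y₀
  obtain ⟨_, ⟨(V₀ : V'.left.Opens), hV₀, rfl⟩, hv, -⟩ := V'.left.isBasis_affineOpens.exists_subset_of_mem_open
    (Set.mem_univ v₀) isOpen_univ
  let V : Over S := Over.mk (V₀.ι ≫ V'.hom)
  let ιV : V ⟶ V' := Over.homMk V₀.ι
  have : IsAffine V.left := hV₀
  have : Smooth ιV.left := inferInstanceAs (Smooth V₀.ι)
  let b0 := BasedFunctor.comp (overMap ιV) vb
  have hb0 : RepByAlgSpWith (AlgSp.LocP @Smooth) b0 :=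
    repWith_comp_locP Groth.L23.etLocal_smooth (overCat_isFibGrpd V) (overCat_isFibGrpd V') (smooth_overMap ιV) hvb
  have : IsLocallyNoetherian V.left := hn V b0 hb0
  let v₁ : V.left := ⟨v₀, hv⟩
  have hv₁ : Points.ofChart b0 v₁ = Points.ofChart vb v₀ := ofChart_overMap_comp ιV vb v₁
  -- an affine chart of the fibre product over it
  have hVid : RepByAlgSpWith (AlgSp.LocP @Smooth) (overMap (𝟙 V)) := smooth_overMap (𝟙 V)
  have hVids : RepByAlgSpWith AlgSp.IsSurjectiveMor (overMap (𝟙 V)) :=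
    repWith_surjective_of_isSurjective (overCat_isFibGrpd V) (overCat_isFibGrpd V) (repWith_rep1 hVid)
      ((isSurjective_iff_ofChart _).2 fun q => ⟨overPt q, by
        rw [ofChart_eq_map, Function.comp_apply, map_overMap_ptOver]
        exact ptOver_overPt q⟩)
  obtain ⟨W, w, hWaff, hw, hws⟩ := hqc (FibCat.overCat V)
    (isAlgStack_etale_of_atlas (isStack_overCat_etale V) ⟨V, _, hVid, hVids⟩)
    ⟨V, _, inferInstance, hVid, hVids⟩ b0
  obtain ⟨v, ⟨iw⟩, -⟩ := exists_overMap_iso (BasedFunctor.comp w (FibCat.fpFst b0 f))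
  have : LocallyOfFiniteType v.left := prop_of_locP_map (P := @LocallyOfFiniteType)
    (Groth.L24.LocQ.prop_of_chart Groth.L24.LocQ.isSmoothLocalST_lft g𝒳 g𝒴 hft hb0
      ((repWith_postcomp (fpSwap_isEquivOver (F := b0) (G := f)) w).2 hw) (h' := v) iw)
  have : IsLocallyNoetherian W.left := LocallyOfFiniteType.isLocallyNoetherian v.left
  have : CompactSpace W.left := inferInstance
  have : IsNoetherian W.left := ⟨⟩
  have hfp := L09.Fib.fp_isFibGrpd (overCat_isFibGrpd V) g𝒳 g𝒴 (F := b0) (G := f)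
  let X := BasedFunctor.comp w (FibCat.fpSnd b0 f)
  have hX : RepByAlgSpWith (AlgSp.LocP @Smooth) X :=
    repWith_comp_locP Groth.L23.etLocal_smooth (overCat_isFibGrpd W) hfp hw (repWith_fpSnd f hb0)
  have hXc : Continuous (Points.ofChart X) := continuous_ofChart_of_atlas g𝒳 h𝒳.atlas X
  -- the points over `x` come arbitrarily close
  let E : Set W.left := Points.ofChart X ⁻¹' {x}
  have hsub : Points.ofChart b0 ⁻¹' {Points.map f x} ⊆ v.left '' E := by
    intro t ht
    obtain ⟨q, hq, hq'⟩ := exists_points_fp g𝒳 g𝒴 (overCat_isFibGrpd V) f b0 (ptOver t) x ht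
    obtain ⟨u, rfl⟩ := surjective_ofChart_of_repWith hfp hws q
    refine ⟨u, ?_, (overPtEquiv V).symm.injective ?_⟩
    · show Points.ofChart X u = x
      rw [← hq', ofChart_eq_map, ofChart_eq_map, Function.comp_apply, Function.comp_apply, map_comp_apply]
    · show ptOver _ = ptOver t
      rw [← hq, ← map_overMap_ptOver, ← map_congr iw, ofChart_eq_map, Function.comp_apply, map_comp_apply]
  have h1 : v₁ ∈ closure (v.left '' E) := by
    refine closure_mono hsub ?_
    rw [← (isOpenMap_ofChart isOpenMap_of_smooth g𝒴 hb0).preimage_closure_eq_closure_preimage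
      (continuous_ofChart_of_atlas g𝒴 h𝒴.atlas b0), Set.mem_preimage, hv₁]
    exact specializes_iff_mem_closure.1 hsp
  obtain ⟨Ts, hTf, hTc, hTi, hTu⟩ :=
    TopologicalSpace.NoetherianSpace.exists_finite_set_isClosed_irreducible (isClosed_closure (s := E))
  obtain ⟨T, ⟨hT, e, heT, heE⟩, hv₁T⟩ : ∃ T, (T ∈ Ts ∧ ∃ e ∈ T, e ∈ E) ∧ v₁ ∈ closure (v.left '' T) := by
    let Ts' := {T ∈ Ts | ∃ e ∈ T, e ∈ E}
    have hE : v.left '' E ⊆ ⋃ T ∈ Ts', v.left '' T := by
      rintro _ ⟨e, he, rfl⟩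
      obtain ⟨T, hT, heT⟩ := hTu.subset (subset_closure he)
      exact Set.mem_biUnion (x := T) ⟨hT, e, heT, he⟩ ⟨e, heT, rfl⟩
    have h2 := closure_mono hE h1
    rw [(hTf.subset (Set.sep_subset _ _)).closure_biUnion] at h2
    obtain ⟨T, hT, h3⟩ := Set.mem_iUnion₂.1 h2
    exact ⟨T, hT, h3⟩
  obtain ⟨η, hη⟩ := QuasiSober.sober (hTi T hT) (hTc T hT)
  have hvη : v.left η ⤳ v₁ := specializes_iff_mem_closure.2 (closure_minimal (fun z hz => by
      obtain ⟨t, ht, rfl⟩ := hz
      exact ((hη.specializes ht).map v.left.continuous).mem_closure) isClosed_closure hv₁T)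
  have hηx : Points.ofChart X η = x := by
    have h2 : Points.ofChart X η ⤳ x := (heE : Points.ofChart X e = x) ▸ (hη.specializes heT).map hXc
    have h3 : η ∈ closure E := hTu.superset ⟨T, hT, hη.mem⟩
    have h4 : Points.ofChart X η ∈ closure {x} :=
      closure_mono (Set.image_preimage_subset _ _) (image_closure_subset_closure_image hXc ⟨η, h3, rfl⟩)
    exact (h2.antisymm (specializes_iff_mem_closure.2 h4)).eq
  -- rings
  let A := Γ(V.left, ⊤)
  let D := Γ(W.left, ⊤)
  let φ : A ⟶ D := v.left.appTop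
  have hnat : Spec.map φ ≫ V.left.isoSpec.inv = W.left.isoSpec.inv ≫ v.left :=
    Scheme.isoSpec_inv_naturality v.left
  have hA : IsNoetherianRing A := IsLocallyNoetherian.component_noetherian (X := V.left) ⟨⊤, isAffineOpen_top _⟩
  have hφ : φ.hom.FiniteType := HasRingHomProperty.appTop @LocallyOfFiniteType v.left inferInstance
  let P : PrimeSpectrum D := W.left.isoSpec.hom η
  let q : PrimeSpectrum A := V.left.isoSpec.hom v₁
  have hP : W.left.isoSpec.inv P = η := by
    show W.left.isoSpec.inv (W.left.isoSpec.hom η) = η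
    rw [← Scheme.Hom.comp_apply, Iso.hom_inv_id]
    rfl
  have hq : V.left.isoSpec.inv q = v₁ := by
    show V.left.isoSpec.inv (V.left.isoSpec.hom v₁) = v₁
    rw [← Scheme.Hom.comp_apply, Iso.hom_inv_id]
    rfl
  have hspq : P.comap φ.hom ⤳ q := V.left.isoSpec.inv.homeomorph.isInducing.specializes_iff.1 (by
    show V.left.isoSpec.inv (Spec.map φ P) ⤳ V.left.isoSpec.inv q
    rw [← Scheme.Hom.comp_apply, hnat, Scheme.Hom.comp_apply, hP, hq]
    exact hvη)
  obtain ⟨R, _, _, _, g, h, hgh, hker, hmax⟩ := exists_dvr_specialization_or_eq φ.hom hφ P q hspq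
  let sR : Spec (CommRingCat.of R) ⟶ S := Spec.map (CommRingCat.ofHom g) ≫ V.left.isoSpec.inv ≫ V.hom
  let toV : Over.mk sR ⟶ V := Over.homMk (Spec.map (CommRingCat.ofHom g) ≫ V.left.isoSpec.inv) (Category.assoc _ _ _)
  let jK : Over.mk (Spec.map (CommRingCat.ofHom (algebraMap R (FractionRing R))) ≫ sR) ⟶ Over.mk sR :=
    Over.homMk (Spec.map (CommRingCat.ofHom (algebraMap R (FractionRing R)))) rfl
  have hK : (Spec.map (CommRingCat.ofHom h) ≫ W.left.isoSpec.inv) ≫ v.left = jK.left ≫ toV.left := by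
    rw [Category.assoc, ← hnat, ← Category.assoc, ← Spec.map_comp]
    show _ = Spec.map _ ≫ Spec.map _ ≫ V.left.isoSpec.inv
    rw [← Category.assoc, ← Spec.map_comp]
    congr 2
    exact CommRingCat.hom_ext hgh.symm
  let kR : Over.mk (Spec.map (CommRingCat.ofHom (algebraMap R (FractionRing R))) ≫ sR) ⟶ W :=
    Over.homMk (Spec.map (CommRingCat.ofHom h) ≫ W.left.isoSpec.inv) (by
      show (_ ≫ _) ≫ W.hom = jK.left ≫ sR
      rw [← Over.w v, ← Category.assoc _ v.left, hK, Category.assoc]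
      exact congrArg (fun k => jK.left ≫ k) (Over.w toV))
  have hk : kR ≫ v = jK ≫ toV := Over.OverMorphism.ext hK
  let X0 := BasedFunctor.comp (overMap kR) w
  refine ⟨R, inferInstance, inferInstance, inferInstance, sR, BasedFunctor.comp X0 (FibCat.fpSnd b0 f),
    BasedFunctor.comp (overMap toV) b0, ⟨whiskerL X0 (FibCat.fpIso b0 f).symm ≪≫
      whiskerR (whiskerL (overMap kR) iw ≪≫ (overMapCompIso _ _).symm ≪≫ eqToIso (by rw [hk]) ≪≫
        overMapCompIso _ _) b0⟩, fun p => ?_, ?_⟩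
  · show Points.ofChart (BasedFunctor.comp (overMap kR) X) p = x
    rw [ofChart_overMap_comp, ← hηx, ← hP]
    show Points.ofChart X ((Spec.map (CommRingCat.ofHom h) ≫ W.left.isoSpec.inv) p) = _
    rw [Scheme.Hom.comp_apply]
    congr 2
    refine PrimeSpectrum.ext ?_
    show (p : PrimeSpectrum (FractionRing R)).asIdeal.comap h = P.asIdeal
    rw [(Ideal.eq_bot_or_top (p : PrimeSpectrum (FractionRing R)).asIdeal).resolve_right
      (p : PrimeSpectrum (FractionRing R)).isPrime.ne_top, ← RingHom.ker_eq_comap_bot, hker]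
  · rw [ofChart_overMap_comp, ← hv₁]
    show Points.ofChart b0 ((Spec.map (CommRingCat.ofHom g) ≫ V.left.isoSpec.inv) _) = _
    rw [Scheme.Hom.comp_apply, ← hq]
    congr 2
    exact PrimeSpectrum.ext hmax

end Groth.L24.UnivClosed
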