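import Groth.Agent.L24.UnivClosed.Noeth
import Groth.Agent.L23.ClosedAffineSpace
import Groth.Agent.L24.LocQ.Instances
import Groth.Agent.L24.LocQ.Engine
import Groth.Agent.L24.St.LocPFppf
import Groth.Agent.L24.St.Bootstrap3
import Groth.Agent.L24.St.Compact
import Mathlib.AlgebraicGeometry.AffineSpace

/-!
Reduction of universal closedness to affine spaces over a chart of the target.
-/

set_option autoImplicit false
set_option backward.isDefEq.respectTransparency false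
set_option backward.isDefEq.respectTransparency.types false

universe u

open CategoryTheory CategoryTheory.Limits AlgebraicGeometry Opposite AlgSt Topology

noncomputable section

namespace Groth.L24.UnivClosed

open Groth.L24.St

variable {S : Scheme.{u}} {𝒳 𝒴 : AlgSt.Cat S}

theorem exists_point_of_isPullback {P X Y Z : Scheme.{u}} {fst : P ⟶ X} {snd : P ⟶ Y} {f : X ⟶ Z} {g : Y ⟶ Z}
    (sq : IsPullback fst snd f g) (x : X) (y : Y) (h : f x = g y) : ∃ z, fst z = x ∧ snd z = y := by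
  obtain ⟨z, h1, h2⟩ := Scheme.Pullback.exists_preimage_pullback x y h
  refine ⟨sq.isoPullback.inv z, ?_, ?_⟩
  · rw [← Scheme.Hom.comp_apply, sq.isoPullback_inv_fst, h1]
  · rw [← Scheme.Hom.comp_apply, sq.isoPullback_inv_snd, h2]

theorem ptOver_injective {U : Over S} : Function.Injective (ptOver (U := U)) := (overPtEquiv U).symm.injective

variable (f : 𝒳 ⥤ᵇ 𝒴) (h𝒳 : FibCat.IsFibGrpd 𝒳.p) (h𝒴 : FibCat.IsFibGrpd 𝒴.p) (hval : DvrLifts f)
  {V W T : Over S} (b0 : FibCat.overCat V ⥤ᵇ 𝒴) (w : FibCat.overCat W ⥤ᵇ FibCat.fp b0 f) {v : W ⟶ V}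
  (iw : BasedFunctor.comp w (FibCat.fpFst b0 f) ≅ overMap v) (e : T ⟶ V)

theorem map_fst_base {T : Over S} (e : T ⟶ V) (r : (pullback v e).left) :
    Points.map (FibCat.fpFst (overMap e) (FibCat.fpFst b0 f)) (Points.ofChart (base _ w iw e) r) =
      ptOver ((pullback.snd v e).left r) := by
  rw [← map_overMap_ptOver, ofChart_eq_map, Function.comp_apply, ← map_comp_apply]
  rfl

include h𝒳 h𝒴 hval

/-- A point outside the image of a closed set has a neighbourhood outside the image. -/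
theorem exists_nhd_not_mem (hw : RepByAlgSpWith (AlgSp.LocP @Smooth) w)
    (hws : RepByAlgSpWith AlgSp.IsSurjectiveMor w) [IsAffine V.left] [IsLocallyNoetherian V.left]
    [IsAffine W.left] [IsAffine T.left] [LocallyOfFiniteType v.left]
    (C : Set (Points (FibCat.fp (overMap e) (FibCat.fpFst b0 f))))
    (hC : IsClosed (Points.ofChart (base _ w iw e) ⁻¹' C)) (t : T.left)
    (ht : ∀ r, Points.ofChart (base _ w iw e) r ∈ C → (pullback.snd v e).left r ≠ t) :
    ∃ N : Set T.left, IsOpen N ∧ t ∈ N ∧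
      ∀ P ∈ C, ∀ t' ∈ N, Points.map (FibCat.fpFst _ _) P ≠ ptOver t' := by
  classical
  have hfp := L09.Fib.fp_isFibGrpd (overCat_isFibGrpd V) h𝒳 h𝒴 (F := b0) (G := f)
  have sq := (IsPullback.of_hasPullback v e).map (Over.forget S)
  let R := pullback v e
  have : IsAffine ((Over.forget S).obj W) := inferInstanceAs (IsAffine W.left)
  have : IsAffine ((Over.forget S).obj T) := inferInstanceAs (IsAffine T.left)
  have : IsAffine ((Over.forget S).obj V) := inferInstanceAs (IsAffine V.left)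
  have : IsAffine R.left := IsAffine.of_isPullback sq
  let O := (Points.ofChart (base _ w iw e) ⁻¹' C)ᶜ
  let K := (pullback.snd v e).left ⁻¹' {t}
  have hK : IsCompact K := (pullback.snd v e).left.isCompact_preimage_singleton t
  have hKO : ∀ p ∈ K, ∃ r : Γ(R.left, ⊤), p ∈ R.left.basicOpen r ∧ (R.left.basicOpen r : Set R.left) ⊆ O :=
    fun p hp => by
      obtain ⟨_, ⟨_, ⟨r, rfl⟩, rfl⟩, hr, hr'⟩ :=
        (isBasis_basicOpen R.left).exists_subset_of_mem_open (show p ∈ O from fun h => ht p h hp) hC.isOpen_compl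
      exact ⟨r, hr, hr'⟩
  choose! r hr hrO using hKO
  obtain ⟨s, hsK, hs⟩ := hK.elim_nhds_subcover (fun p => (R.left.basicOpen (r p) : Set R.left))
    (fun p hp => (R.left.basicOpen (r p)).isOpen.mem_nhds (hr p hp))
  choose N bs as hsum using fun j : {p // p ∈ s} =>
    Groth.L23.exists_sum_of_isPushout (isPushout_appTop_of_isPullback sq) (r j.1)
  let M := Σ j : {p // p ∈ s}, Fin (N j)
  obtain ⟨n, ⟨en⟩⟩ := Finite.exists_equiv_fin M
  let g : T.left ⟶ 𝔸(ULift.{u} (Fin n); V.left) :=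
    AffineSpace.homOfVector e.left fun k => as (en.symm k.down).1 (en.symm k.down).2
  let Tn := Groth.L23.affOver V (ULift.{u} (Fin n))
  let π : Tn ⟶ V := Groth.L23.affProj V (ULift.{u} (Fin n))
  let g' : T ⟶ Tn := Over.homMk g (by
    show g ≫ (𝔸(ULift.{u} (Fin n); V.left) ↘ V.left) ≫ V.hom = T.hom
    rw [AffineSpace.homOfVector_over_assoc, Over.w e])
  have hg' : g' ≫ π = e := Over.OverMorphism.ext (AffineSpace.homOfVector_over _ _)
  let lR : R ⟶ pullback v π := pullback.lift (pullback.fst v e) (pullback.snd v e ≫ g')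
    (by rw [Category.assoc, hg', pullback.condition])
  have hl₁ : lR ≫ pullback.fst v π = pullback.fst v e := pullback.lift_fst _ _ _
  have hl₂ : lR ≫ pullback.snd v π = pullback.snd v e ≫ g' := pullback.lift_snd _ _ _
  have sql : IsPullback lR (pullback.snd v e) (pullback.snd v π) g' := by
    refine IsPullback.of_right ?_ hl₂ (IsPullback.of_hasPullback v π)
    rw [hl₁, hg']
    exact IsPullback.of_hasPullback v e
  let r' := fun j : {p // p ∈ s} => ∑ k, (pullback.fst v π).left.appTop.hom (bs j k) *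
    (pullback.snd v π).left.appTop.hom (AffineSpace.coord V.left ⟨en ⟨j, k⟩⟩)
  have hr' : ∀ j, lR.left.appTop.hom (r' j) = r j.1 := fun j => by
    refine (map_sum _ _ _).trans ((Finset.sum_congr rfl fun k _ => ?_).trans (hsum j).symm)
    have e₁ := congr($(Scheme.Hom.comp_appTop lR.left (pullback.fst v π).left).hom (bs j k))
    have e₂ := congr($(Scheme.Hom.comp_appTop lR.left (pullback.snd v π).left).hom
      (AffineSpace.coord V.left ⟨en ⟨j, k⟩⟩))
    rw [← Over.comp_left, hl₁] at e₁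
    rw [← Over.comp_left, hl₂, Over.comp_left, Scheme.Hom.comp_appTop] at e₂
    rw [map_mul]
    refine congrArg₂ (· * ·) e₁.symm (e₂.symm.trans ?_)
    show (pullback.snd v e).left.appTop.hom (g.appTop.hom _) = _
    erw [AffineSpace.homOfVector_appTop_coord]
    exact congrArg (fun z : M => (pullback.snd v e).left.appTop.hom (as z.1 z.2)) (en.symm_apply_apply ⟨j, k⟩)
  let D : Set (pullback v π).left := ⋃ j, ((pullback v π).left.basicOpen (r' j) : Set _)
  have hD : IsOpen D := isOpen_iUnion fun j => ((pullback v π).left.basicOpen (r' j)).isOpen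
  have hlD : ∀ p, lR.left p ∈ D ↔ ∃ j : {p // p ∈ s}, p ∈ R.left.basicOpen (r j.1) := fun p => by
    simp only [D, Set.mem_iUnion]
    refine exists_congr fun j => ?_
    rw [← hr' j, ← Scheme.preimage_basicOpen_top]
    rfl
  let Cn : Set (Points (FibCat.fp (overMap π) (FibCat.fpFst b0 f))) :=
    (Points.ofChart (base _ w iw π) '' D)ᶜ
  have hCn : IsClosed Cn := (isOpenMap_ofChart isOpenMap_of_smooth (fibGrpd_base _ π hfp)
    (repWith_base _ w iw π hw) D hD).isClosed_compl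
  have : IsAffine Tn.left := inferInstanceAs (IsAffine 𝔸(ULift.{u} (Fin n); V.left))
  have : IsLocallyNoetherian Tn.left := by
    have : LocallyOfFinitePresentation π.left :=
      inferInstanceAs (LocallyOfFinitePresentation (𝔸(ULift.{u} (Fin n); V.left) ↘ V.left))
    have : LocallyOfFiniteType π.left := inferInstance
    exact LocallyOfFiniteType.isLocallyNoetherian π.left
  have him := isClosed_image_of_noeth f b0 w iw π h𝒳 h𝒴 hw hws hval hCn
  refine ⟨g'.left ⁻¹' ((pullback.snd v π).left '' (Points.ofChart (base _ w iw π) ⁻¹' Cn))ᶜ,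
    him.isOpen_compl.preimage g'.left.continuous, ?_, fun P hP t' ht' hPt => ?_⟩
  · rintro ⟨rn, hrn, hrt⟩
    obtain ⟨p, hp₁, hp₂⟩ := exists_point_of_isPullback (sql.map (Over.forget S)) rn t hrt
    obtain ⟨q, hq, hpq⟩ := Set.mem_iUnion₂.1 (hs (show p ∈ K from hp₂))
    exact hrn ⟨rn, hp₁ ▸ (hlD p).2 ⟨⟨q, hq⟩, hpq⟩, rfl⟩
  · obtain ⟨rn, hrn⟩ := surjective_ofChart_base f b0 w iw π h𝒳 h𝒴 hws
      (Points.map (baseMap (FibCat.fpFst b0 f) e π g' hg') P)
    have hsnd : (pullback.snd v π).left rn = g'.left t' := ptOver_injective (by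
      rw [← map_fst_base f b0 w iw π rn, hrn, map_fst_baseMap _ e hfp π g' hg', hPt, map_overMap_ptOver])
    have : Points.ofChart (base _ w iw π) rn ∉ Cn := fun h => ht' ⟨rn, h, hsnd⟩
    obtain ⟨d, hd, hdn⟩ := not_not.1 this
    obtain ⟨p, hp, hpd⟩ := exists_base_pair (FibCat.fpFst b0 f) w iw e hfp π g' hg' lR hl₁ hl₂ P d
      (hrn.symm.trans hdn.symm)
    obtain ⟨j, hj⟩ := (hlD p).1 (hpd ▸ hd)
    have hpO : p ∈ O := hrO j.1 (hsK _ j.2) hj
    exact hpO (show Points.ofChart (base _ w iw e) p ∈ C from hp ▸ hP)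

omit h𝒳 h𝒴 hval

/-- Points of a base change over a point of a chart of the base. -/
theorem exists_point_base_change {𝒵 : AlgSt.Cat S} {g : 𝒵 ⥤ᵇ 𝒴} (h𝒳 : FibCat.IsFibGrpd 𝒳.p)
    (h𝒴 : FibCat.IsFibGrpd 𝒴.p) (h𝒵 : FibCat.IsFibGrpd 𝒵.p) (zT : FibCat.overCat T ⥤ᵇ 𝒵)
    (σ : BasedFunctor.comp zT g ≅ BasedFunctor.comp (overMap e) b0) (P : Points (FibCat.fp g f)) (t : T.left)
    (h : Points.map (FibCat.fpFst g f) P = Points.ofChart zT t) :
    ∃ q : Points (FibCat.fp (overMap e) (FibCat.fpFst b0 f)), Points.map (FibCat.fpFst _ _) q = ptOver t ∧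
      Points.map (BasedFunctor.comp (fpPaste (overMap e) b0 f)
        (fpMap zT (BasedFunctor.id 𝒳) σ (Iso.refl _))) q = P := by
  obtain ⟨p, hp₁, hp₂⟩ := exists_points_fp (L09.Fib.fp_isFibGrpd h𝒵 h𝒳 h𝒴) h𝒵 (overCat_isFibGrpd T)
    (FibCat.fpFst g f) zT (ptOver t) P h.symm
  let p' := Points.map (fpPaste zT g f) p
  let σ' : BasedFunctor.comp (BasedFunctor.id _) (BasedFunctor.comp zT g) ≅ BasedFunctor.comp (overMap e) b0 := σ
  let E : FibCat.fp (BasedFunctor.comp (overMap e) b0) f ⥤ᵇ FibCat.fp (BasedFunctor.comp zT g) f :=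
    fpMap (BasedFunctor.id _) (BasedFunctor.id 𝒳) σ' (Iso.refl _)
  obtain ⟨q₁, hq₁⟩ := (bijective_map_of_isEquivOver
    (fpMap_isEquivOver (isEquivOver_id _) (isEquivOver_id _) σ' (Iso.refl _) : FibCat.IsEquivOver E)).surjective p'
  obtain ⟨q, rfl⟩ := (bijective_map_of_isEquivOver (fpPaste_isEquivOver (overMap e) b0 f)).surjective q₁
  let M : FibCat.fp (BasedFunctor.comp zT g) f ⥤ᵇ FibCat.fp g f :=
    fpMap zT (BasedFunctor.id 𝒳) (Iso.refl _) (Iso.refl _)
  have h1 : Points.map M p' = P := by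
    rw [← hp₂]
    obtain ⟨η, rfl⟩ := Points.mk_surjective p
    refine mk_eq_of_hom (p := (η.map (fpPaste zT g f)).map M) (q := η.map (FibCat.fpSnd _ _))
      (fpHom η.obj.obj.iso.hom (𝟙 _) ?_)
    show g.map η.obj.obj.iso.hom ≫ η.obj.obj.snd.obj.iso.hom =
      (𝟙 _ ≫ (g.map η.obj.obj.iso.hom ≫ η.obj.obj.snd.obj.iso.hom) ≫ 𝟙 _) ≫ f.map (𝟙 _)
    simp
  refine ⟨q, ?_, ?_⟩
  · have h2 : Points.map (FibCat.fpFst _ f) (Points.map E (Points.map (fpPaste (overMap e) b0 f) q)) =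
        Points.map (FibCat.fpFst _ f) p' := congrArg _ hq₁
    have h3 : Points.map (FibCat.fpFst _ f) (Points.map E (Points.map (fpPaste (overMap e) b0 f) q)) =
        Points.map (FibCat.fpFst _ _) q := by
      rw [← map_comp_apply, ← map_comp_apply]
      rfl
    have h4 : Points.map (FibCat.fpFst _ f) p' = Points.map (FibCat.fpFst _ _) p := by
      rw [← map_comp_apply]
      rfl
    exact h3.symm.trans (h2.trans (h4.trans hp₁))
  · rw [← h1, ← hq₁, map_comp_apply]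
    generalize Points.map (fpPaste (overMap e) b0 f) q = z
    obtain ⟨η, rfl⟩ := Points.mk_surjective z
    refine mk_eq_of_hom (p := η.map _) (q := (η.map E).map M) (fpHom (𝟙 _) (𝟙 _) ?_)
    show g.map (𝟙 _) ≫ (𝟙 _ ≫ ((compApp σ η.obj.obj.fst).hom ≫ η.obj.obj.iso.hom ≫ 𝟙 _) ≫ 𝟙 _) =
      ((compApp σ η.obj.obj.fst).hom ≫ η.obj.obj.iso.hom ≫ 𝟙 _) ≫ f.map (𝟙 _)
    simp

/-- The criterion of universal closedness with discrete valuation rings. -/
theorem isUnivClosed_of_dvrLifts (h𝒳 : IsAlgStack Scheme.etalePrecoverage 𝒳)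
    (h𝒴 : IsAlgStack Scheme.etalePrecoverage 𝒴) (hn : SmoothLocally (fun X => IsLocallyNoetherian X) 𝒴)
    (hqc : IsQuasiCompactMor Scheme.etalePrecoverage f) (hft : LocQ (AlgSp.LocP @LocallyOfFiniteType) f)
    (hval : DvrLifts f) : IsUnivClosed Scheme.etalePrecoverage f := by
  intro 𝒵 h𝒵 g A hA
  have g𝒳 := h𝒳.isStack.1
  have g𝒴 := h𝒴.isStack.1
  have g𝒵 := h𝒵.isStack.1
  rw [← isOpen_compl_iff, isOpen_iff_forall_mem_open]
  intro z hz
  obtain ⟨U, zc, hzc, hzcs⟩ := h𝒵.atlas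
  obtain ⟨u₀, rfl⟩ := surjective_ofChart_of_repWith g𝒵 hzcs z
  obtain ⟨V', vb, hvb, hvbs⟩ := h𝒴.atlas
  obtain ⟨W₂, ψ, ρ, hψ, ⟨i⟩, hpairs⟩ := exists_chart_square g𝒴 (x := BasedFunctor.comp zc g) hvb
  obtain ⟨v₀, hv₀⟩ := surjective_ofChart_of_repWith g𝒴 hvbs (Points.ofChart (BasedFunctor.comp zc g) u₀)
  obtain ⟨u₂, hu₂, -⟩ := hpairs u₀ v₀ hv₀.symm
  obtain ⟨_, ⟨(V₀ : V'.left.Opens), hV₀, rfl⟩, huV, -⟩ := V'.left.isBasis_affineOpens.exists_subset_of_mem_open
    (Set.mem_univ (ρ.left u₂)) isOpen_univ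
  obtain ⟨_, ⟨(B : W₂.left.Opens), hB, rfl⟩, huB, hBV⟩ := W₂.left.isBasis_affineOpens.exists_subset_of_mem_open
    (show u₂ ∈ ρ.left ⁻¹ᵁ V₀ from huV) (ρ.left ⁻¹ᵁ V₀).isOpen
  let V : Over S := Over.mk (V₀.ι ≫ V'.hom)
  let ιV : V ⟶ V' := Over.homMk V₀.ι
  let T : Over S := Over.mk (B.ι ≫ W₂.hom)
  let ιT : T ⟶ W₂ := Over.homMk B.ι
  let e : T ⟶ V := Over.homMk (ρ.left.resLE V₀ B hBV) (by
    show ρ.left.resLE V₀ B hBV ≫ V₀.ι ≫ V'.hom = B.ι ≫ W₂.hom
    rw [Scheme.Hom.resLE_comp_ι_assoc, Over.w ρ])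
  have he : e ≫ ιV = ιT ≫ ρ := Over.OverMorphism.ext (Scheme.Hom.resLE_comp_ι _ hBV)
  have : IsAffine V.left := hV₀
  have : IsAffine T.left := hB
  have : Smooth ιV.left := inferInstanceAs (Smooth V₀.ι)
  have : Smooth (ιT ≫ ψ).left := by
    have : Smooth ψ.left := hψ
    exact inferInstanceAs (Smooth (B.ι ≫ ψ.left))
  let b0 := BasedFunctor.comp (overMap ιV) vb
  let zT := BasedFunctor.comp (overMap (ιT ≫ ψ)) zc
  have hb0 : RepByAlgSpWith (AlgSp.LocP @Smooth) b0 :=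
    repWith_comp_locP Groth.L23.etLocal_smooth (overCat_isFibGrpd V) (overCat_isFibGrpd V') (smooth_overMap ιV) hvb
  have hzT : RepByAlgSpWith (AlgSp.LocP @Smooth) zT :=
    repWith_comp_locP Groth.L23.etLocal_smooth (overCat_isFibGrpd T) (overCat_isFibGrpd U) (smooth_overMap (ιT ≫ ψ)) hzc
  have : IsLocallyNoetherian V.left := hn V b0 hb0
  let σ : BasedFunctor.comp zT g ≅ BasedFunctor.comp (overMap e) b0 :=
    whiskerR (overMapCompIso ιT ψ) (BasedFunctor.comp zc g) ≪≫ whiskerL (overMap ιT) i ≪≫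
      whiskerR ((overMapCompIso ιT ρ).symm ≪≫ eqToIso (by rw [he]) ≪≫ overMapCompIso e ιV) vb
  -- the chart over the affine open of the target
  have hVid : RepByAlgSpWith (AlgSp.LocP @Smooth) (overMap (𝟙 V)) := smooth_overMap (𝟙 V)
  have hVids : RepByAlgSpWith AlgSp.IsSurjectiveMor (overMap (𝟙 V)) :=
    repWith_surjective_of_isSurjective (overCat_isFibGrpd V) (overCat_isFibGrpd V) (repWith_rep1 hVid)
      ((isSurjective_iff_ofChart _).2 fun q => ⟨overPt q, by
        rw [ofChart_eq_map, Function.comp_apply, map_overMap_ptOver]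
        exact ptOver_overPt q⟩)
  obtain ⟨W, w, hWaff, hw, hws⟩ := hqc (FibCat.overCat V)
    (isAlgStack_etale_of_atlas (isStack_overCat_etale V) ⟨V, _, hVid, hVids⟩)
    ⟨V, _, inferInstance, hVid, hVids⟩ b0
  obtain ⟨v, ⟨iw⟩, -⟩ := exists_overMap_iso (BasedFunctor.comp w (FibCat.fpFst b0 f))
  have : LocallyOfFiniteType v.left := prop_of_locP_map (P := @LocallyOfFiniteType)
    (Groth.L24.LocQ.prop_of_chart Groth.L24.LocQ.isSmoothLocalST_lft g𝒳 g𝒴 hft hb0
      ((repWith_postcomp (fpSwap_isEquivOver (F := b0) (G := f)) w).2 hw) (h' := v) iw)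
  let Φ := BasedFunctor.comp (fpPaste (overMap e) b0 f) (fpMap zT (BasedFunctor.id 𝒳) σ (Iso.refl _))
  let C := Points.map Φ ⁻¹' A
  have hfpA := isAlgStack_fp_of (isPrestack_of_isStack h𝒴.isStack) h𝒴.diag h𝒵 h𝒳 g f
  have hC : IsClosed (Points.ofChart (base _ w iw e) ⁻¹' C) := by
    show IsClosed (Points.ofChart (BasedFunctor.comp (base _ w iw e) Φ) ⁻¹' A)
    exact hA.preimage (continuous_ofChart_of_atlas hfpA.isStack.1 hfpA.atlas _)
  have hfst : ∀ q : Points (FibCat.fp (overMap e) (FibCat.fpFst b0 f)),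
      Points.map (FibCat.fpFst g f) (Points.map Φ q) = Points.map zT (Points.map (FibCat.fpFst _ _) q) := fun q => by
    rw [← map_comp_apply, ← map_comp_apply]
    rfl
  let t₀ : T.left := ⟨u₂, huB⟩
  have ht₀ : Points.ofChart zT t₀ = Points.ofChart zc u₀ := by
    rw [ofChart_overMap_comp, ← hu₂]
    rfl
  obtain ⟨N, hN, htN, hN'⟩ := exists_nhd_not_mem f g𝒳 g𝒴 hval b0 w iw e hw hws C hC t₀ fun r hr hrt => by
    refine hz ⟨Points.map Φ (Points.ofChart (base _ w iw e) r), hr, ?_⟩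
    rw [hfst, map_fst_base, hrt, ← ht₀]
    rfl
  refine ⟨Points.ofChart zT '' N, ?_, isOpenMap_ofChart isOpenMap_of_smooth g𝒵 hzT N hN, ⟨t₀, htN, ht₀⟩⟩
  rintro _ ⟨t', ht', rfl⟩ ⟨P, hP, hPt⟩
  obtain ⟨q, hq, hqP⟩ := exists_point_base_change f b0 e g𝒳 g𝒴 g𝒵 zT σ P t' hPt
  exact hN' q (show Points.map Φ q ∈ A by rw [hqP]; exact hP) t' ht' hq

end Groth.L24.UnivClosed
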