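import Groth.Agent.L24.St.ChartTop
import Groth.Agent.L24.LocQ.Instances
import Groth.Agent.L24.LocQ.Engine
import Groth.Agent.L24.St.LocPFppf
import Groth.Agent.L24.St.Bootstrap3
import Groth.Agent.L24.UnivClosed.Basic
import Mathlib.AlgebraicGeometry.Morphisms.UniversallyOpen
import Mathlib.AlgebraicGeometry.ValuativeCriterion

/-!
Valuation rings witnessing specializations in stacks.
-/

set_option autoImplicit false
set_option backward.isDefEq.respectTransparency false
set_option backward.isDefEq.respectTransparency.types false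

universe u

open CategoryTheory CategoryTheory.Limits AlgebraicGeometry Opposite AlgSt Topology IsLocalRing

noncomputable section

namespace Groth.L24.UnivClosed

open Groth.L24.St

/-- A specialization of the image of a point, realised by a valuation ring. -/
theorem exists_valuation_witness {W T : Scheme.{u}} (φ : W ⟶ T) (x : W) (y : T) (h : φ x ⤳ y) :
    ∃ (A : Type u) (_ : CommRing A) (_ : IsDomain A) (_ : ValuationRing A) (b : Spec (CommRingCat.of A) ⟶ T)
      (k : Spec (CommRingCat.of (FractionRing A)) ⟶ W),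
      k ≫ φ = Spec.map (CommRingCat.ofHom (algebraMap A (FractionRing A))) ≫ b ∧
        b (closedPoint A) = y ∧ ∀ s, k s = x := by
  let c : T.presheaf.stalk y ⟶ W.residueField x :=
    T.presheaf.stalkSpecializes h ≫ φ.stalkMap x ≫ W.residue x
  obtain ⟨B, hB, hB'⟩ := exists_factor_valuationRing c.hom
  let cB : T.presheaf.stalk y ⟶ .of B := CommRingCat.ofHom (c.hom.codRestrict _ hB)
  let b := Spec.map cB ≫ T.fromSpecStalk y
  have w : W.fromSpecResidueField x ≫ φ =
      Spec.map (CommRingCat.ofHom (algebraMap B (W.residueField x))) ≫ b := by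
    rw [Scheme.fromSpecResidueField, Category.assoc, ← Scheme.SpecMap_stalkMap_fromSpecStalk,
      ← Scheme.SpecMap_stalkSpecializes_fromSpecStalk h]
    simp_rw [b, ← Spec.map_comp_assoc]
    rfl
  let e : W.residueField x ≅ CommRingCat.of (FractionRing B) :=
    (FractionRing.algEquiv B (W.residueField x)).symm.toRingEquiv.toCommRingCatIso
  have he : CommRingCat.ofHom (algebraMap B (W.residueField x)) ≫ e.hom =
      CommRingCat.ofHom (algebraMap B (FractionRing B)) :=
    CommRingCat.hom_ext (RingHom.ext (FractionRing.algEquiv B (W.residueField x)).symm.commutes)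
  refine ⟨B, inferInstance, inferInstance, inferInstance, b, Spec.map e.hom ≫ W.fromSpecResidueField x,
    ?_, ?_, fun s => ?_⟩
  · rw [Category.assoc, w, ← Category.assoc, ← Spec.map_comp, he]
  · have : Spec.map cB (closedPoint B) = closedPoint (T.presheaf.stalk y) :=
      comap_closedPoint (S := B) (c.hom.codRestrict B.toSubring hB)
    show T.fromSpecStalk y (Spec.map cB _) = y
    rw [this, Scheme.fromSpecStalk_closedPoint]
  · rw [Scheme.Hom.comp_apply, Scheme.fromSpecResidueField_apply]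

/-- A point in the closure of the range of a map of affine schemes is a specialization of a point
of the range. -/
theorem exists_specializes_of_mem_closure_range {W T : Scheme.{u}} [IsAffine W] [IsAffine T] (φ : W ⟶ T)
    (y : T) (h : y ∈ closure (Set.range φ)) : ∃ x, φ x ⤳ y := by
  let g := φ.appTop.hom
  let ι := T.isoSpec.hom
  have hnat : W.isoSpec.hom ≫ Spec.map φ.appTop = φ ≫ ι := Scheme.isoSpec_hom_naturality φ
  have h1 : ι y ∈ closure (Set.range (PrimeSpectrum.comap g)) := by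
    refine closure_mono ?_ (image_closure_subset_closure_image ι.continuous ⟨y, h, rfl⟩)
    rintro _ ⟨_, ⟨x, rfl⟩, rfl⟩
    exact ⟨W.isoSpec.hom x, by
      show Spec.map φ.appTop _ = ι (φ x)
      rw [← Scheme.Hom.comp_apply, hnat, Scheme.Hom.comp_apply]⟩
  rw [PrimeSpectrum.closure_range_comap] at h1
  obtain ⟨q, hq, hq'⟩ := Ideal.exists_minimalPrimes_le (J := (ι y : PrimeSpectrum _).asIdeal) h1
  obtain ⟨p, hp, -, hpq⟩ := Ideal.exists_comap_eq_of_mem_minimalPrimes g (I := ⊥) q hq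
  refine ⟨W.isoSpec.inv ⟨p, hp⟩, ι.homeomorph.isInducing.specializes_iff.1 ?_⟩
  show ι (φ _) ⤳ ι y
  rw [← Scheme.Hom.comp_apply, ← hnat, ← Scheme.Hom.comp_apply, Iso.inv_hom_id_assoc]
  refine (PrimeSpectrum.le_iff_specializes _ _).1 ?_
  show p.comap g ≤ _
  rw [hpq]
  exact hq'

variable {S : Scheme.{u}} {𝒳 𝒴 : AlgSt.Cat S}

theorem isQuasiCompact_overCat (K : Over S) [IsAffine K.left] :
    IsQuasiCompact (FibCat.overCat K : AlgSt.Cat S) := by
  refine ⟨K, _, inferInstance, smooth_overMap (𝟙 K), ?_⟩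
  exact repWith_surjective_of_isSurjective (overCat_isFibGrpd K) (overCat_isFibGrpd K)
    (repWith_rep1 (smooth_overMap (𝟙 K))) ((isSurjective_iff_ofChart _).2 fun q => ⟨overPt q, by
      rw [ofChart_eq_map, Function.comp_apply, map_overMap_ptOver]
      exact ptOver_overPt q⟩)

/-- Points of the closure of the image are witnessed by valuation rings. -/
theorem exists_witness_of_mem_closure (h𝒳 : IsAlgStack Scheme.fppfPrecoverage 𝒳)
    (h𝒴 : IsAlgStack Scheme.fppfPrecoverage 𝒴) (f : 𝒳 ⥤ᵇ 𝒴) (hf : IsQuasiCompactMor Scheme.fppfPrecoverage f)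
    (y : Points 𝒴) (hy : y ∈ closure (Set.range (Points.map f))) :
    ∃ (A : Type u) (_ : CommRing A) (_ : IsDomain A) (_ : ValuationRing A) (sA : Spec (CommRingCat.of A) ⟶ S)
      (a : FibCat.overCat (Over.mk sA) ⥤ᵇ 𝒴)
      (x : FibCat.overCat (Over.mk (Spec.map (CommRingCat.ofHom (algebraMap A (FractionRing A))) ≫ sA)) ⥤ᵇ 𝒳),
      Nonempty (BasedFunctor.comp x f ≅
        BasedFunctor.comp (AlgSt.overMap (Over.homMk (Spec.map (CommRingCat.ofHom (algebraMap A (FractionRing A)))) rfl :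
          Over.mk (Spec.map (CommRingCat.ofHom (algebraMap A (FractionRing A))) ≫ sA) ⟶ Over.mk sA)) a) ∧
      AlgSt.Points.ofChart a (IsLocalRing.closedPoint A) = y := by
  obtain ⟨V', vb, hvb, hvbs⟩ := h𝒴.atlas
  obtain ⟨v₀, rfl⟩ := surjective_ofChart_of_repWith h𝒴.isStack.1 hvbs y
  obtain ⟨_, ⟨(V₀ : V'.left.Opens), hV₀, rfl⟩, hv, -⟩ := V'.left.isBasis_affineOpens.exists_subset_of_mem_open
    (Set.mem_univ v₀) isOpen_univ
  let V : Over S := Over.mk (V₀.ι ≫ V'.hom)
  let ιV : V ⟶ V' := Over.homMk V₀.ι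
  have : IsAffine V.left := hV₀
  have : Smooth ιV.left := inferInstanceAs (Smooth V₀.ι)
  let b0 := BasedFunctor.comp (overMap ιV) vb
  have hb0 : RepByAlgSpWith (AlgSp.LocP @Smooth) b0 :=
    repWith_comp_locP Groth.L23.etLocal_smooth (overCat_isFibGrpd V) (overCat_isFibGrpd V') (smooth_overMap ιV) hvb
  let v₁ : V.left := ⟨v₀, hv⟩
  have hv₁ : Points.ofChart b0 v₁ = Points.ofChart vb v₀ := ofChart_overMap_comp ιV vb v₁
  obtain ⟨W, w, hWa, -, hws⟩ := hf (FibCat.overCat V) (isAlgStack_overCat V) (isQuasiCompact_overCat V) b0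
  obtain ⟨v, ⟨iw⟩, -⟩ := exists_overMap_iso (BasedFunctor.comp w (FibCat.fpFst b0 f))
  have hfp := L09.Fib.fp_isFibGrpd (overCat_isFibGrpd V) h𝒳.isStack.1 h𝒴.isStack.1 (F := b0) (G := f)
  have hsub : Points.ofChart b0 ⁻¹' Set.range (Points.map f) ⊆ Set.range v.left := by
    rintro t ⟨p, hp⟩
    obtain ⟨q, hq, -⟩ := exists_points_fp h𝒳.isStack.1 h𝒴.isStack.1 (overCat_isFibGrpd V) f b0 (ptOver t) p hp.symm
    obtain ⟨u, rfl⟩ := surjective_ofChart_of_repWith hfp hws q
    refine ⟨u, (overPtEquiv V).symm.injective ?_⟩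
    show ptOver _ = ptOver t
    rw [← hq, ← map_overMap_ptOver, ← map_congr iw, ofChart_eq_map, Function.comp_apply, map_comp_apply]
  have h1 : v₁ ∈ closure (Set.range v.left) := by
    refine closure_mono hsub ?_
    rw [← (isOpenMap_ofChart isOpenMap_of_smooth h𝒴.isStack.1 hb0).preimage_closure_eq_closure_preimage
      (continuous_ofChart h𝒴 b0)]
    show Points.ofChart b0 v₁ ∈ closure (Set.range (Points.map f))
    rw [hv₁]
    exact hy
  obtain ⟨x₀, hx₀⟩ := exists_specializes_of_mem_closure_range v.left v₁ h1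
  obtain ⟨A, _, _, _, b, k, hkb, hbc, -⟩ := exists_valuation_witness v.left x₀ v₁ hx₀
  let sA := b ≫ V.hom
  let bT : Over.mk sA ⟶ V := Over.homMk b rfl
  let jK : Over.mk (Spec.map (CommRingCat.ofHom (algebraMap A (FractionRing A))) ≫ sA) ⟶ Over.mk sA :=
    Over.homMk (Spec.map (CommRingCat.ofHom (algebraMap A (FractionRing A)))) rfl
  let kW : Over.mk (Spec.map (CommRingCat.ofHom (algebraMap A (FractionRing A))) ≫ sA) ⟶ W := Over.homMk k (by
    show k ≫ W.hom = _ ≫ b ≫ V.hom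
    rw [← Over.w v, ← Category.assoc, hkb, Category.assoc])
  have hk : kW ≫ v = jK ≫ bT := Over.OverMorphism.ext hkb
  let X := BasedFunctor.comp (overMap kW) w
  refine ⟨A, inferInstance, inferInstance, inferInstance, sA, BasedFunctor.comp (overMap bT) b0,
    BasedFunctor.comp X (FibCat.fpSnd b0 f), ⟨?_⟩, ?_⟩
  · exact whiskerL X (FibCat.fpIso b0 f).symm ≪≫ whiskerR (whiskerL (overMap kW) iw ≪≫
      (overMapCompIso _ _).symm ≪≫ eqToIso (by rw [hk]) ≪≫ overMapCompIso _ _) b0
  · rw [ofChart_overMap_comp]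
    show Points.ofChart b0 (b (closedPoint A)) = _
    rw [hbc, hv₁]

/-- Flat morphisms lift valuation rings after an extension. -/
theorem exists_lift_of_flat (h𝒳 : IsAlgStack Scheme.fppfPrecoverage 𝒳) (h𝒴 : IsAlgStack Scheme.fppfPrecoverage 𝒴)
    (f : 𝒳 ⥤ᵇ 𝒴) (hf : AlgSt.LocQ (AlgSp.LocP @Flat) f)
    (A : Type u) [CommRing A] [IsDomain A] [ValuationRing A] (sA : Spec (CommRingCat.of A) ⟶ S)
    (a : FibCat.overCat (Over.mk sA) ⥤ᵇ 𝒴)
    (ha : AlgSt.Points.ofChart a (IsLocalRing.closedPoint A) ∈ Set.range (AlgSt.Points.map f)) :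
    ∃ (A' : Type u) (_ : CommRing A') (_ : IsDomain A') (_ : ValuationRing A') (φ : A →+* A'),
      Function.Injective φ ∧ IsLocalHom φ ∧
      ∃ x : FibCat.overCat (Over.mk (Spec.map (CommRingCat.ofHom φ) ≫ sA)) ⥤ᵇ 𝒳,
        Nonempty (BasedFunctor.comp x f ≅
          BasedFunctor.comp (AlgSt.overMap (Over.homMk (Spec.map (CommRingCat.ofHom φ)) rfl :
            Over.mk (Spec.map (CommRingCat.ofHom φ) ≫ sA) ⟶ Over.mk sA)) a) := by
  obtain ⟨V, y, hy, hys⟩ := h𝒴.atlas
  obtain ⟨U, ℓ, h, hℓ, -, ⟨i⟩, -, ⟨α⟩, hxs⟩ := Groth.L24.LocQ.exists_chart h𝒳 h𝒴 f y hy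
  have hflat : Flat h.left := prop_of_locP_map (P := @Flat)
    (Groth.L24.LocQ.prop_of_chart Groth.L24.LocQ.isSmoothLocalST_flat h𝒳.isStack.1 h𝒴.isStack.1 hf hy hℓ i)
  obtain ⟨p, hp⟩ := ha
  obtain ⟨u, rfl⟩ := surjective_ofChart_of_repWith h𝒳.isStack.1 (hxs hys) p
  obtain ⟨W₂, ψ, ρ, hψ, ⟨β⟩, hpairs⟩ := exists_chart_square h𝒴.isStack.1 (x := a) hy
  have hyu : Points.ofChart a (closedPoint A) = Points.ofChart y (h.left u) := by
    rw [← ofChart_overMap_comp, ← ofChart_congr α, map_comp_ofChart, ← hp]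
    rfl
  obtain ⟨w₂, hw₂, hw₂'⟩ := hpairs _ _ hyu
  obtain ⟨w, hwu, hww⟩ := Scheme.Pullback.exists_preimage_pullback u w₂ hw₂'.symm
  have : Smooth ψ.left := hψ
  let q := pullback.snd h.left ρ.left ≫ ψ.left
  have : Flat q := inferInstance
  have hq : q w = closedPoint A := by
    show ψ.left (pullback.snd h.left ρ.left w) = _
    rw [hww, hw₂]
  obtain ⟨w', hw', hqw'⟩ := Flat.generalizingMap q (show (⟨⊥, Ideal.bot_prime⟩ : PrimeSpectrum A) ⤳ q w from
    (PrimeSpectrum.le_iff_specializes _ _).1 bot_le)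
  obtain ⟨A', _, _, _, b, k, hkb, hbc, hk⟩ := exists_valuation_witness (𝟙 (pullback h.left ρ.left)) w' w hw'
  obtain ⟨φ, hφ⟩ := Spec.map_surjective (b ≫ q)
  let jA : Over.mk (Spec.map (CommRingCat.ofHom φ.hom) ≫ sA) ⟶ Over.mk sA :=
    Over.homMk (Spec.map (CommRingCat.ofHom φ.hom)) rfl
  have hjA : jA.left = b ≫ q := hφ
  have hc : PrimeSpectrum.comap φ.hom (closedPoint A') = closedPoint A := by
    show Spec.map φ _ = _
    rw [hφ, Scheme.Hom.comp_apply, hbc]
    exact hq
  have hloc : IsLocalHom φ.hom := (isLocalHom_iff_comap_closedPoint φ.hom).2 hc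
  have hinj : Function.Injective φ.hom := by
    rw [RingHom.injective_iff_ker_eq_bot]
    let s₀ : PrimeSpectrum (FractionRing A') := ⟨⊥, Ideal.bot_prime⟩
    have h2 : Spec.map φ (Spec.map (CommRingCat.ofHom (algebraMap A' (FractionRing A'))) s₀) =
        (⟨⊥, Ideal.bot_prime⟩ : PrimeSpectrum A) := by
      rw [hφ, ← Scheme.Hom.comp_apply, ← Category.assoc, ← hkb, Category.comp_id, Scheme.Hom.comp_apply, hk]
      exact hqw'
    have h3 : ((⊥ : Ideal (FractionRing A')).comap (algebraMap A' (FractionRing A'))).comap φ.hom = ⊥ :=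
      congrArg PrimeSpectrum.asIdeal h2
    rw [← RingHom.ker_eq_comap_bot, (RingHom.injective_iff_ker_eq_bot _).1
      (IsFractionRing.injective A' (FractionRing A'))] at h3
    exact h3
  let P : Over S := Over.mk (pullback.snd h.left ρ.left ≫ W₂.hom)
  let g₁ : P ⟶ U := Over.homMk (pullback.fst h.left ρ.left) (by
    show pullback.fst h.left ρ.left ≫ U.hom = pullback.snd h.left ρ.left ≫ W₂.hom
    rw [← Over.w h, ← Over.w ρ, pullback.condition_assoc])
  let g₂ : P ⟶ W₂ := Over.homMk (pullback.snd h.left ρ.left) rfl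
  have hg : g₁ ≫ h = g₂ ≫ ρ := Over.OverMorphism.ext pullback.condition
  let bP : Over.mk (Spec.map (CommRingCat.ofHom φ.hom) ≫ sA) ⟶ P := Over.homMk b (by
    show b ≫ pullback.snd h.left ρ.left ≫ W₂.hom = Spec.map φ ≫ sA
    rw [hφ, ← Over.w ψ]
    simp only [q, Category.assoc]
    rfl)
  have hb : bP ≫ g₂ ≫ ψ = jA := Over.OverMorphism.ext hjA.symm
  refine ⟨A', inferInstance, inferInstance, inferInstance, φ.hom, hinj, hloc,
    BasedFunctor.comp (overMap (bP ≫ g₁)) (BasedFunctor.comp ℓ (FibCat.fpFst f y)), ⟨?_⟩⟩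
  exact whiskerL (overMap (bP ≫ g₁)) α ≪≫
    whiskerR ((overMapCompIso _ _).symm ≪≫ eqToIso (by rw [Category.assoc, hg]) ≪≫
      eqToIso (by rw [Category.assoc]) ≪≫ overMapCompIso (bP ≫ g₂) ρ) y ≪≫
    whiskerL (overMap (bP ≫ g₂)) β.symm ≪≫
    whiskerR ((overMapCompIso _ _).symm ≪≫ eqToIso (by rw [Category.assoc, hb])) a

end Groth.L24.UnivClosed
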